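import Groth.Agent.EGA2.K33.NormalExt
import Groth.Agent.AgPol.K513.PolDeg
import Groth.Agent.AgPol.K814.PolClosed
import Groth.Agent.AbSch.K258.PlanKey
import Groth.Agent.Sga3B.DSPts
import Groth.Agent.PicF.K247.SmoothGI

/-!
# Torsion sections of the generic fibre of an abelian scheme over a normal base extend
-/

set_option autoImplicit false
universe u

open CategoryTheory MonoidalCategory CartesianMonoidalCategory MonObj GrpObj AlgebraicGeometry Limits Opposite
open Groth.Agent.Grpsch K258.KeyDat K258.PlanKey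

namespace Groth.Agent.Variety.K431.SecExt

/-- NODE SECEXT: a torsion section of the generic fibre extends over a normal base. -/
theorem exists_section_extend {V : Scheme.{u}} [IsIntegral V] [IsNoetherian V] (hV : Pi1.IsNormalScheme V)
    {K : Type u} [Field K] (ξ : Spec (CommRingCat.of K) ⟶ V) (hξ : IsGenPt ξ)
    (A : Over V) [GrpObj A] [IsCommMonObj A] {g : ℕ} (hA : AgPol.IsAbSch A g) (n : ℕ) (hn : 1 ≤ n)
    (a' : 𝟙_ (Over (Spec (CommRingCat.of K))) ⟶ Red.bc ξ A) (ha' : a' ^ n = 1) :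
    ∃ a : 𝟙_ (Over V) ⟶ A, a ^ n = 1 ∧ ξ ≫ a.left = a'.left ≫ pullback.fst A.hom ξ := by
  have i1 := hA.smooth
  have i2 := hA.proper
  have i3 := hA.geomConnected
  have i4 : GeometricallyIntegral A.hom := K247.SmoothGI.geometricallyIntegral A.hom
  have hfin := K513.PolDeg.isFinite_pow A g hA.fibreDim n hn
  obtain ⟨Z, i, hZ, -, -, hi, huniv⟩ := K814.PolClosed.exists_tors (A := A) n hn hfin
  let b := (Groth.Agent.Sga3B.DSPts.bcEquiv ξ (𝟙_ _) A).symm a'
  have hb : b ^ n = 1 := by
    change (Groth.Agent.Sga3B.DSPts.bcEquiv ξ (𝟙_ _) A).symm a' ^ n = 1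
    rw [← map_pow, ha', map_one]
  have hbl : b.left = a'.left ≫ pullback.fst A.hom ξ := Groth.Agent.Sga3B.DSPts.bcEquiv_symm_left _ _ _ _
  obtain ⟨b', hb'⟩ := huniv b hb
  obtain ⟨e, he⟩ := hξ
  have hw : b'.left ≫ Z.hom = ξ := by
    rw [Over.w b']
    exact Category.id_comp _
  let f : V.presheaf.stalk (genericPoint V) ⟶ CommRingCat.of K := CommRingCat.ofHom e.toRingHom
  have hf : IsIso f := by
    rw [ConcreteCategory.isIso_iff_bijective]
    exact e.bijective
  have he' : ξ = Spec.map f ≫ V.fromSpecStalk (genericPoint V) := he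
  obtain ⟨s, hs1, hs2⟩ := K33.NormalExt.exists_section_of_generic hV Z.hom (inv (Spec.map f) ≫ b'.left) (by
    rw [Category.assoc, hw, he', IsIso.inv_hom_id_assoc])
  let a₀ : 𝟙_ (Over V) ⟶ Z := Over.homMk s hs1
  refine ⟨a₀ ≫ i, ?_, ?_⟩
  · rw [← MonObj.comp_pow, hi, MonObj.comp_one]
  · have h5 : ξ ≫ s = b'.left := by
      refine (congrArg (fun t => t ≫ s) he').trans ?_
      rw [Category.assoc, hs2, IsIso.hom_inv_id_assoc]
    have h6 : b'.left ≫ i.left = b.left := by rw [← hb']; rfl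
    rw [Over.comp_left, ← Category.assoc]
    exact (congrArg (fun t => t ≫ i.left) h5).trans (h6.trans hbl)

end Groth.Agent.Variety.K431.SecExt
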