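import Groth.Agent.Ega2.GlobGenCrit
import Groth.Agent.Ega2.TensMon
import Groth.Agent.Ega2.TensLift
import Groth.Agent.PerfB.TensExact

/-!
# Tensor products of globally generated modules are globally generated
-/

set_option autoImplicit false
universe u
open CategoryTheory CategoryTheory.Limits AlgebraicGeometry

namespace Groth.Agent.Variety.K431.GGTensor

open Groth.Agent

variable {X : Scheme.{u}}

/-- The free module on `ι` as a coproduct in `X.Modules`. -/
noncomputable abbrev fr (X : Scheme.{u}) (ι : Type u) : X.Modules := ∐ fun _ : ι => Coh.structureModule X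

theorem iff_epi (M : X.Modules) : Curv2.IsGloballyGenerated M ↔ ∃ (ι : Type u) (p : fr X ι ⟶ M), Epi p :=
  Iff.rfl

/-- `M` is globally generated iff the sections `O ⟶ M` are jointly epimorphic. -/
theorem iff_cancel (M : X.Modules) : Curv2.IsGloballyGenerated M ↔
    ∀ (Z : X.Modules) (f : M ⟶ Z), (∀ s : Coh.structureModule X ⟶ M, s ≫ f = 0) → f = 0 := by
  rw [iff_epi]
  constructor
  · rintro ⟨ι, p, hp⟩ Z f h
    rw [← cancel_epi p, comp_zero]
    exact Sigma.hom_ext (C := X.Modules) (f := fun _ : ι => Coh.structureModule X) _ _ fun i => by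
      rw [comp_zero, ← Category.assoc]
      exact h _
  · intro h
    refine ⟨Coh.structureModule X ⟶ M, Sigma.desc fun s => s, ?_⟩
    refine Preadditive.epi_of_cancel_zero _ fun {Z} g hg => h Z g fun s => ?_
    have h1 : s = Sigma.ι (fun _ : (Coh.structureModule X ⟶ M) => Coh.structureModule X) s ≫
        Sigma.desc fun s => s :=
      (Sigma.ι_desc (f := fun _ : (Coh.structureModule X ⟶ M) => Coh.structureModule X) (fun s => s) s).symm
    rw [h1, Category.assoc, hg, comp_zero]

theorem of_epi {M N : X.Modules} (φ : M ⟶ N) [Epi φ] (h : Curv2.IsGloballyGenerated M) :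
    Curv2.IsGloballyGenerated N := by
  rw [iff_epi] at h ⊢
  obtain ⟨ι, p, hp⟩ := h
  exact ⟨ι, p ≫ φ, epi_comp p φ⟩

theorem structureModule : Curv2.IsGloballyGenerated (Coh.structureModule X) :=
  (iff_cancel _).2 fun Z f h => by simpa using h (𝟙 _)

/-- `O ⊗ N ≅ N`. -/
noncomputable def lu (N : X.Modules) : (DCoh.tensorRightMod N).obj (Coh.structureModule X) ≅ N :=
  Ega2.Tens.lunit N

/-- `(s ⊗ N) ∘ λ⁻¹`. -/
noncomputable def act {M : X.Modules} (N : X.Modules) (s : Coh.structureModule X ⟶ M) :
    N ⟶ (DCoh.tensorRightMod N).obj M :=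
  (lu N).inv ≫ (DCoh.tensorRightMod N).map s

theorem tensor' {M N : X.Modules} (hM : Curv2.IsGloballyGenerated M) (hN : Curv2.IsGloballyGenerated N) :
    Curv2.IsGloballyGenerated ((DCoh.tensorRightMod N).obj M) := by
  rw [iff_cancel]
  intro Z f' h
  rw [iff_epi] at hM
  obtain ⟨ι, p, hp⟩ := hM
  have h1 := PerfB.TensExact.preservesFiniteColimits_tensorRightMod N
  have h0 := PerfB.TensExact.preservesColimits_tensorRightMod N
  have h2 : (DCoh.tensorRightMod N).PreservesEpimorphisms :=
    CategoryTheory.preservesEpimorphisms_of_preservesColimitsOfShape _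
  have h3 : Epi ((DCoh.tensorRightMod N).map p) := (DCoh.tensorRightMod N).map_epi p
  have h4 : ∀ s : Coh.structureModule X ⟶ M, (DCoh.tensorRightMod N).map s ≫ f' = 0 := by
    intro s
    rw [← cancel_epi (lu N).inv, comp_zero]
    refine (iff_cancel N).1 hN Z _ fun t => ?_
    rw [← Category.assoc (lu N).inv, ← Category.assoc]
    exact h (t ≫ act N s)
  have key : (DCoh.tensorRightMod N).map p ≫ f' = 0 := by
    refine (isColimitOfPreserves (DCoh.tensorRightMod N)
      (coproductIsCoproduct (fun _ : ι => Coh.structureModule X))).hom_ext fun ⟨i⟩ => ?_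
    rw [comp_zero]
    have h5 := h4 (Sigma.ι (fun _ : ι => Coh.structureModule X) i ≫ p)
    rw [Functor.map_comp, Category.assoc] at h5
    exact h5
  rw [← cancel_epi ((DCoh.tensorRightMod N).map p), comp_zero]
  exact key

theorem tensor {M N : X.Modules} (hM : Curv2.IsGloballyGenerated M) (hN : Curv2.IsGloballyGenerated N) :
    Curv2.IsGloballyGenerated (CohB1.tensorMod M N) := tensor' hM hN

end Groth.Agent.Variety.K431.GGTensor
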