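import Groth.Agent.Variety.K426.Cut
import Mathlib.RingTheory.Ideal.KrullsHeightTheorem
import Mathlib.AlgebraicGeometry.Morphisms.UniversallyOpen
import Mathlib.AlgebraicGeometry.Noetherian

/-!
# Immediate generizations avoiding a closed subset

* `height_le_one_of_forall_mem`: in a Noetherian domain, if all nonzero primes inside the prime `P`
  contain a fixed nonzero element, then `P` has height at most one.
* `exists_immediate`: on a locally Noetherian scheme, if `x ⤳ q` and the closed set `F` does not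
  contain `x`, there is `x ⤳ x' ⤳ q`, `x' ∉ F`, with no point strictly between `x'` and `q`.
* `exists_trd_one`: for schemes locally of finite type over a field and `q ∈ F` closed, such an `x'`
  has a one-dimensional closure.
-/

set_option autoImplicit false

universe u

open CategoryTheory CategoryTheory.Limits AlgebraicGeometry Topology
open Groth.Agent Groth.Agent.VarietyB

namespace K431.CurveThru

theorem height_le_one_of_forall_mem {A : Type*} [CommRing A] [IsDomain A] [IsNoetherianRing A]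
    (P : Ideal A) [P.IsPrime] (t : A) (ht : t ≠ 0)
    (hall : ∀ Q : Ideal A, Q.IsPrime → Q ≠ ⊥ → Q ≤ P → t ∈ Q) : P.height ≤ 1 := by
  by_cases hP0 : P = ⊥
  · subst hP0
    rw [Ideal.height_bot]
    exact zero_le_one
  by_contra hlt
  have htP : t ∈ P := hall P inferInstance hP0 le_rfl
  have hfin : (Ideal.span {t}).minimalPrimes.Finite := Ideal.finite_minimalPrimes_of_isNoetherianRing A _
  have h1 : ∀ c ∈ (Ideal.span {t}).minimalPrimes, c.height ≤ 1 := fun c hc =>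
    Ideal.height_le_one_of_isPrincipal_of_mem_minimalPrimes (Ideal.span {t}) c hc
  have h2 : ∀ c ∈ (Ideal.span {t}).minimalPrimes, ¬ P ≤ c := by
    intro c hc hle
    have h3 : c ≤ P := hc.2 ⟨inferInstance, (Ideal.span_singleton_le_iff_mem _).mpr htP⟩ hle
    have h4 : P = c := le_antisymm hle h3
    exact hlt (h4 ▸ h1 c hc)
  have h5 : ¬ ((P : Set A) ⊆ ⋃ c ∈ (Ideal.span {t}).minimalPrimes, (c : Set A)) := by
    intro hsub
    rw [Ideal.subset_union_prime_finite hfin (f := fun c => c) ⊥ ⊥ (fun c hc _ _ => hc.1.1)] at hsub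
    obtain ⟨c, hc, hle⟩ := hsub
    exact h2 c hc hle
  obtain ⟨u, huP, hu⟩ := Set.not_subset.mp h5
  simp only [Set.mem_iUnion, not_exists] at hu
  obtain ⟨c₀, hc₀, -⟩ := Ideal.exists_minimalPrimes_le (J := P) (I := Ideal.span {t})
    ((Ideal.span_singleton_le_iff_mem _).mpr htP)
  have hu0 : u ≠ 0 := fun h => hu c₀ hc₀ (by rw [h]; exact c₀.zero_mem)
  obtain ⟨C, hC, hCP⟩ := Ideal.exists_minimalPrimes_le (J := P) (I := Ideal.span {u})
    ((Ideal.span_singleton_le_iff_mem _).mpr huP)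
  have hCp : C.IsPrime := hC.1.1
  have huC : u ∈ C := hC.1.2 (Ideal.mem_span_singleton_self u)
  have hC0 : C ≠ ⊥ := fun h => hu0 (by rw [h] at huC; exact huC)
  have hCh : C.height ≤ 1 := Ideal.height_le_one_of_isPrincipal_of_mem_minimalPrimes (Ideal.span {u}) C hC
  have htC : t ∈ C := hall C hCp hC0 hCP
  obtain ⟨c, hc, hcC⟩ := Ideal.exists_minimalPrimes_le (J := C) (I := Ideal.span {t})
    ((Ideal.span_singleton_le_iff_mem _).mpr htC)
  have hcp : c.IsPrime := hc.1.1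
  rcases eq_or_lt_of_le hcC with h6 | h6
  · exact hu c hc (h6 ▸ huC)
  · have hc0 : (⊥ : Ideal A) < c := by
      rw [bot_lt_iff_ne_bot]
      intro h
      have := hc.1.2 (Ideal.mem_span_singleton_self t)
      rw [h] at this
      exact ht this
    have h7 : (⊥ : Ideal A).height + 1 ≤ c.height := Ideal.height_add_one_le_of_lt_of_isPrime hc0
    have h8 : c.height + 1 ≤ C.height := Ideal.height_add_one_le_of_lt_of_isPrime h6
    rw [Ideal.height_bot, zero_add] at h7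
    have h9 : (1 : ℕ∞) + 1 ≤ 1 := (add_le_add_left h7 1).trans (h8.trans hCh)
    exact absurd h9 (by decide)

/-- If all primes strictly above `q` and below `P` contain `t ∉ q`, there is no prime strictly between
`q` and `P`. -/
theorem eq_or_eq_of_forall_mem {A : Type*} [CommRing A] [IsNoetherianRing A]
    (q P : Ideal A) [q.IsPrime] [P.IsPrime] (hqP : q ≤ P) (t : A) (ht : t ∉ q)
    (hall : ∀ Q : Ideal A, Q.IsPrime → q < Q → Q ≤ P → t ∈ Q)
    (r : Ideal A) (hr : r.IsPrime) (h1 : q ≤ r) (h2 : r ≤ P) : r = q ∨ r = P := by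
  by_contra hcon
  push Not at hcon
  have hlt1 : q < r := lt_of_le_of_ne h1 (Ne.symm hcon.1)
  have hlt2 : r < P := lt_of_le_of_ne h2 hcon.2
  have hsurj : Function.Surjective (Ideal.Quotient.mk q) := Ideal.Quotient.mk_surjective
  have hP' : (P.map (Ideal.Quotient.mk q)).IsPrime :=
    Ideal.map_isPrime_of_surjective hsurj (by rwa [Ideal.mk_ker])
  have hr' : (r.map (Ideal.Quotient.mk q)).IsPrime :=
    Ideal.map_isPrime_of_surjective hsurj (by rwa [Ideal.mk_ker])
  have hcomap : ∀ J : Ideal A, q ≤ J → (J.map (Ideal.Quotient.mk q)).comap (Ideal.Quotient.mk q) = J := by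
    intro J hJ
    rw [Ideal.comap_map_of_surjective' _ hsurj, Ideal.mk_ker, sup_eq_left.mpr hJ]
  have h3 : (P.map (Ideal.Quotient.mk q)).height ≤ 1 := by
    refine height_le_one_of_forall_mem _ (Ideal.Quotient.mk q t) ?_ ?_
    · rwa [Ne, Ideal.Quotient.eq_zero_iff_mem]
    · intro Q hQ hQ0 hQP
      have h4 : q ≤ Q.comap (Ideal.Quotient.mk q) := by
        intro a ha
        rw [Ideal.mem_comap, Ideal.Quotient.eq_zero_iff_mem.mpr ha]
        exact Q.zero_mem
      refine hall (Q.comap (Ideal.Quotient.mk q)) (Ideal.IsPrime.comap _) (lt_of_le_of_ne h4 ?_) ?_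
      · intro h
        apply hQ0
        rw [← Ideal.map_comap_of_surjective _ hsurj Q, ← h, Ideal.map_quotient_self]
      · rw [← hcomap P hqP]
        exact Ideal.comap_mono hQP
  have h5 : (⊥ : Ideal (A ⧸ q)) < r.map (Ideal.Quotient.mk q) := by
    rw [bot_lt_iff_ne_bot]
    intro h
    have := hcomap r h1
    rw [h, ← RingHom.ker_eq_comap_bot, Ideal.mk_ker] at this
    exact hcon.1 this.symm
  have h6 : r.map (Ideal.Quotient.mk q) < P.map (Ideal.Quotient.mk q) := by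
    refine lt_of_le_of_ne (Ideal.map_mono h2) fun h => hcon.2 ?_
    rw [← hcomap r h1, h, hcomap P hqP]
  have h7 := Ideal.height_add_one_le_of_lt_of_isPrime h5
  have h8 := Ideal.height_add_one_le_of_lt_of_isPrime h6
  rw [Ideal.height_bot, zero_add] at h7
  have h9 : (1 : ℕ∞) + 1 ≤ 1 := (add_le_add_left h7 1).trans (h8.trans h3)
  exact absurd h9 (by decide)

/-- Immediate generizations avoiding a closed subset. -/
theorem exists_immediate {X : Scheme.{u}} [IsLocallyNoetherian X] {x q : X} (h : x ⤳ q)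
    {F : Set X} (hF : IsClosed F) (hx : x ∉ F) :
    ∃ x' : X, x ⤳ x' ∧ x' ⤳ q ∧ x' ∉ F ∧ ∀ y : X, x' ⤳ y → y ⤳ q → y = x' ∨ y = q := by
  obtain ⟨_, ⟨U, hU, rfl⟩, hqU, -⟩ := (X.isBasis_affineOpens).exists_subset_of_mem_open
    (Set.mem_univ q) isOpen_univ
  have hU' : IsAffineOpen U := hU
  have hN : IsNoetherianRing Γ(X, U) := IsLocallyNoetherian.component_noetherian ⟨U, hU⟩
  -- choose a maximal prime
  let S : Set (Ideal Γ(X, U)) := {I | ∃ (y : X) (hy : y ∈ U), x ⤳ y ∧ y ⤳ q ∧ y ∉ F ∧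
    I = (hU'.primeIdealOf ⟨y, hy⟩).asIdeal}
  have hne : S.Nonempty := ⟨_, x, h.mem_open U.2 hqU, specializes_rfl, h, hx, rfl⟩
  obtain ⟨I, ⟨x', hx'U, hxx', hx'q, hx'F, rfl⟩, hmax⟩ := set_has_maximal_iff_noetherian.mpr
    (inferInstance : IsNoetherian Γ(X, U) Γ(X, U)) S hne
  refine ⟨x', hxx', hx'q, hx'F, ?_⟩
  -- a function vanishing on F ∩ U but not at x'
  obtain ⟨t, ht1, ht2⟩ : ∃ t : Γ(X, U), x' ∈ X.basicOpen t ∧ Disjoint ((X.basicOpen t : X.Opens) : Set X) F := by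
    obtain ⟨f, hf, hxf⟩ := hU'.exists_basicOpen_le (V := U ⊓ ⟨Fᶜ, hF.isOpen_compl⟩) ⟨x', ⟨hx'U, hx'F⟩⟩ hx'U
    exact ⟨f, hxf, Set.disjoint_left.mpr fun z hz hzF => (hf hz).2 hzF⟩
  have hall : ∀ Q : Ideal Γ(X, U), Q.IsPrime → (hU'.primeIdealOf ⟨x', hx'U⟩).asIdeal < Q →
      Q ≤ (hU'.primeIdealOf ⟨q, hqU⟩).asIdeal → t ∈ Q := by
    intro Q hQ hlt hle
    obtain ⟨z, hz, hzQ⟩ := K426.Cut.exists_point hU' ⟨Q, hQ⟩
    have h1 : x' ⤳ z := (CovBy.primeIdealOf_le_iff hU' ⟨x', hx'U⟩ ⟨z, hz⟩).mp (by rw [hzQ]; exact hlt.le)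
    have h2 : z ⤳ q := (CovBy.primeIdealOf_le_iff hU' ⟨z, hz⟩ ⟨q, hqU⟩).mp (by rw [hzQ]; exact hle)
    have h3 : z ∈ F := by
      by_contra hzF
      refine hmax _ ⟨z, hz, hxx'.trans h1, h2, hzF, rfl⟩ ?_
      rw [hzQ]
      exact hlt
    have h4 : z ∉ X.basicOpen t := fun h => Set.disjoint_left.mp ht2 h h3
    have h5 := (K426.Cut.mem_primeIdealOf_iff hU' z hz t).mpr h4
    rw [hzQ] at h5
    exact h5
  intro y hy1 hy2
  have hyU : y ∈ U := hy2.mem_open U.2 hqU
  have ht : t ∉ (hU'.primeIdealOf ⟨x', hx'U⟩).asIdeal := fun h =>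
    (K426.Cut.mem_primeIdealOf_iff hU' x' hx'U t).mp h ht1
  have h6 := eq_or_eq_of_forall_mem _ _ ((CovBy.primeIdealOf_le_iff hU' ⟨x', hx'U⟩ ⟨q, hqU⟩).mpr hx'q) t ht hall
    (hU'.primeIdealOf ⟨y, hyU⟩).asIdeal inferInstance
    ((CovBy.primeIdealOf_le_iff hU' ⟨x', hx'U⟩ ⟨y, hyU⟩).mpr hy1)
    ((CovBy.primeIdealOf_le_iff hU' ⟨y, hyU⟩ ⟨q, hqU⟩).mpr hy2)
  have hinj : ∀ (a b : X) (ha : a ∈ U) (hb : b ∈ U),
      (hU'.primeIdealOf ⟨a, ha⟩).asIdeal = (hU'.primeIdealOf ⟨b, hb⟩).asIdeal → a = b := by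
    intro a b ha hb e
    have h1 : hU'.primeIdealOf ⟨a, ha⟩ = hU'.primeIdealOf ⟨b, hb⟩ := PrimeSpectrum.ext e
    have h2 := congrArg hU'.fromSpec h1
    rwa [hU'.fromSpec_primeIdealOf, hU'.fromSpec_primeIdealOf] at h2
  rcases h6 with h6 | h6
  · exact Or.inl (hinj _ _ _ _ h6)
  · exact Or.inr (hinj _ _ _ _ h6)

section Field

variable (k : Type u) [Field k] {X : Scheme.{u}} [X.Over (Spec (CommRingCat.of k))]
  [LocallyOfFiniteType (X ↘ (Spec (CommRingCat.of k)))]

/-- Points with zero-dimensional closure are closed. -/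
theorem isClosed_of_trd_eq_zero {x : X} (hx : DimSch.trd k X x = 0) : IsClosed ({x} : Set X) := by
  have hJ : JacobsonSpace X := LocallyOfFiniteType.jacobsonSpace (X ↘ (Spec (CommRingCat.of k)))
  obtain ⟨c, hc, hcc⟩ := nonempty_inter_closedPoints (Z := closure {x}) ⟨x, subset_closure rfl⟩
    isClosed_closure.isLocallyClosed
  have h1 : x ⤳ c := specializes_iff_mem_closure.mpr hc
  by_cases hxc : x = c
  · rw [hxc]
    exact hcc
  · have := K426.Cut.trd_lt k h1 hxc
    omega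

/-- Immediate generizations of a closed point have one-dimensional closure. -/
theorem trd_eq_one {x q : X} (h : x ⤳ q) (hne : x ≠ q) (hq : IsClosed ({q} : Set X))
    (himm : ∀ y : X, x ⤳ y → y ⤳ q → y = x ∨ y = q) : DimSch.trd k X x = 1 := by
  obtain ⟨_, ⟨U, hU, rfl⟩, hqU, -⟩ := (X.isBasis_affineOpens).exists_subset_of_mem_open
    (Set.mem_univ q) isOpen_univ
  have hU' : IsAffineOpen U := hU
  have hxU : x ∈ U := h.mem_open U.2 hqU
  obtain ⟨t, ht1, ht2⟩ : ∃ t : Γ(X, U), x ∈ X.basicOpen t ∧ q ∉ X.basicOpen t := by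
    obtain ⟨f, hf, hxf⟩ := hU'.exists_basicOpen_le (V := U ⊓ ⟨({q} : Set X)ᶜ, hq.isOpen_compl⟩)
      ⟨x, ⟨hxU, hne⟩⟩ hxU
    exact ⟨f, hxf, fun hqf => (hf hqf).2 rfl⟩
  have h1 := K426.Cut.trd_eq_add_one k h U hU' hqU t ht2 (fun z hz1 hz2 hzt => by
    rcases himm z hz1 hz2 with rfl | rfl
    · exact absurd ht1 hzt
    · rfl) hne
  rw [h1, DimSch.trd_eq_zero_of_isClosed k hq]

end Field

end K431.CurveThru
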