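import Groth.Agent.Variety.K431.AlgClosedIso
import Groth.Agent.Flat2D.ApproxFP
import Mathlib.AlgebraicGeometry.AlgClosed.Basic
import Mathlib.AlgebraicGeometry.Fiber
import Mathlib.AlgebraicGeometry.Noetherian
import Mathlib.Algebra.MvPolynomial.Cardinal
import Mathlib.AlgebraicGeometry.FunctionField
import Mathlib.FieldTheory.IsAlgClosed.AlgebraicClosure

/-!
# Very general fibres and the geometric generic fibre
-/

set_option autoImplicit false
universe u

open CategoryTheory CategoryTheory.Limits AlgebraicGeometry Cardinal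

namespace K431.GeomGenFib

section Pull

variable {T X S₀ X₀ W : Scheme.{u}} {f : X ⟶ T} {f₀ : X₀ ⟶ S₀}

/-- Changing the base along two pullback squares with the same left edge. -/
theorem nonempty_iso {A : Scheme.{u}} (j : A ⟶ T) (h : A ⟶ S₀) (g : pullback f j ⟶ X₀)
    (hpb : IsPullback g (pullback.snd f j) f₀ h) (a : W ⟶ A) :
    Nonempty (pullback f (a ≫ j) ≅ pullback f₀ (a ≫ h)) := by
  have h1 := IsPullback.of_hasPullback (pullback.snd f j) a
  have h2 := (IsPullback.of_hasPullback f j)
  have h3 := h1.paste_horiz h2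
  have h4 := h1.paste_horiz hpb
  exact ⟨h3.isoPullback.symm ≪≫ h4.isoPullback⟩

/-- Changing the base by an isomorphism. -/
theorem nonempty_iso_of_isIso {W' : Scheme.{u}} (e : W' ⟶ W) [IsIso e] (h : W ⟶ S₀) :
    Nonempty (pullback f₀ (e ≫ h) ≅ pullback f₀ h) :=
  ⟨asIso (pullback.map f₀ (e ≫ h) f₀ h (𝟙 _) e (𝟙 _) (by simp) (by simp))⟩

end Pull

section Card

/-- A finitely generated ring is countable. -/
theorem countable_of_finiteType (R : Type*) [CommRing R] [Algebra.FiniteType ℤ R] : Countable R := by
  obtain ⟨n, f, hf⟩ := Algebra.FiniteType.iff_quotient_mvPolynomial''.mp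
    (inferInstance : Algebra.FiniteType ℤ R)
  have : Countable (MvPolynomial (Fin n) ℤ) := by
    rw [← Cardinal.mk_le_aleph0_iff]
    refine (MvPolynomial.cardinalMk_le_max_lift).trans ?_
    simp
  exact hf.countable

theorem card_le_of_finiteType (k A : Type u) [Field k] [Infinite k] [CommRing A] [Algebra k A]
    [Algebra.FiniteType k A] : #A ≤ #k := by
  obtain ⟨n, f, hf⟩ := Algebra.FiniteType.iff_quotient_mvPolynomial''.mp
    (inferInstance : Algebra.FiniteType k A)
  have h1 : #A ≤ #(MvPolynomial (Fin n) k) := Cardinal.mk_le_of_surjective hf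
  refine h1.trans ((MvPolynomial.cardinalMk_le_max_lift).trans ?_)
  have h2 : ℵ₀ ≤ #k := Cardinal.aleph0_le_mk k
  have h3 : Cardinal.lift.{u} #(Fin n) ≤ #k := by
    rw [Cardinal.mk_fin, Cardinal.lift_natCast]
    exact (Cardinal.natCast_lt_aleph0).le.trans h2
  rw [Cardinal.lift_id', max_le_iff, max_le_iff]
  exact ⟨⟨le_rfl, h3⟩, h2⟩

end Card

section Point

variable {T : Scheme.{u}} {U : T.Opens} (hU : IsAffineOpen U)

/-- Evaluation at a point of an affine open. -/
noncomputable def ev (x : T) (hx : x ∈ U) : Γ(T, U) ⟶ T.residueField x :=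
  T.presheaf.germ U x hx ≫ T.residue x

theorem fromSpecResidueField_eq (x : T) (hx : x ∈ U) :
    T.fromSpecResidueField x = Spec.map (ev x hx) ≫ hU.fromSpec := by
  rw [ev, Spec.map_comp, Category.assoc]
  change _ = Spec.map (T.residue x) ≫ hU.fromSpecStalk hx
  rw [hU.fromSpecStalk_eq_fromSpecStalk]
  rfl

theorem ev_ne_zero {x : T} (hx : x ∈ U) {s : Γ(T, U)} (hs : x ∈ T.basicOpen s) : (ev x hx).hom s ≠ 0 := by
  have h1 : IsUnit ((T.presheaf.germ U x hx).hom s) := (T.mem_basicOpen s x hx).mp hs
  have h2 : IsUnit ((ev x hx).hom s) := h1.map (T.residue x).hom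
  exact h2.ne_zero

include hU in
theorem exists_div (x : T) (hx : x ∈ U) (z : T.residueField x) :
    ∃ a s : Γ(T, U), (ev x hx).hom s ≠ 0 ∧ z = (ev x hx).hom a / (ev x hx).hom s := by
  obtain ⟨y, rfl⟩ := T.residue_surjective x z
  let _ := TopCat.Presheaf.algebra_section_stalk T.presheaf (⟨x, hx⟩ : U)
  have := hU.isLocalization_stalk ⟨x, hx⟩
  obtain ⟨⟨a, s⟩, h⟩ := IsLocalization.surj (hU.primeIdealOf ⟨x, hx⟩).asIdeal.primeCompl y
  have hs : IsUnit ((T.presheaf.germ U x hx).hom s) :=
    IsLocalization.map_units (M := (hU.primeIdealOf ⟨x, hx⟩).asIdeal.primeCompl) (T.presheaf.stalk x) s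
  have hs' : (ev x hx).hom s ≠ 0 := (hs.map (T.residue x).hom).ne_zero
  refine ⟨a, s, hs', ?_⟩
  rw [eq_div_iff hs']
  have h' : y * (T.presheaf.germ U x hx).hom s = (T.presheaf.germ U x hx).hom a := h
  have h2 := congrArg (T.residue x).hom h'
  rw [map_mul] at h2
  exact h2

end Point

section Main

variable (k : Type u) [Field k] {T : Scheme.{u}} (sT : T ⟶ Spec (CommRingCat.of k))

include sT

/-- The cardinality of the residue fields, for `k` infinite. -/
theorem card_residueField_le [LocallyOfFiniteType sT] [Infinite k] {U : T.Opens} (hU : IsAffineOpen U) (x : T) (hx : x ∈ U) :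
    #(T.residueField x) ≤ #k := by
  obtain ⟨φ, hφ⟩ := Spec.map_surjective (hU.fromSpec ≫ sT)
  have hft : φ.hom.FiniteType := by
    rw [← HasRingHomProperty.Spec_iff (P := @LocallyOfFiniteType), hφ]
    infer_instance
  algebraize [φ.hom]
  have h1 : #Γ(T, U) ≤ #k := card_le_of_finiteType k Γ(T, U)
  have h2 : #(T.residueField x) ≤ #(Γ(T, U) × Γ(T, U)) := by
    refine Cardinal.mk_le_of_surjective (f := fun p : Γ(T, U) × Γ(T, U) =>
      (ev x hx).hom p.1 / (ev x hx).hom p.2) fun z => ?_
    obtain ⟨a, s, -, rfl⟩ := exists_div hU x hx z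
    exact ⟨(a, s), rfl⟩
  refine h2.trans ?_
  rw [Cardinal.mk_prod, Cardinal.lift_id]
  refine (mul_le_mul' h1 h1).trans ?_
  rw [Cardinal.mul_eq_self (Cardinal.aleph0_le_mk k)]

theorem le_card_residueField (x : T) : #k ≤ #(T.residueField x) := by
  obtain ⟨ψ, -⟩ := Spec.map_surjective (T.fromSpecResidueField x ≫ sT)
  have h : Function.Injective (ψ.hom : k → T.residueField x) := ψ.hom.injective
  exact Cardinal.mk_le_of_injective h

theorem isAlgClosed_residueField [IsAlgClosed k] [LocallyOfFiniteType sT] (x : T) (hx : IsClosed ({x} : Set T)) : IsAlgClosed (T.residueField x) :=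
  IsAlgClosed.of_ringEquiv k _ (residueFieldIsoBase sT x hx).commRingCatIsoToRingEquiv.symm

theorem main [IsAlgClosed k] [LocallyOfFiniteType sT] [Uncountable k] [IsIntegral T] {X : Scheme.{u}} (f : X ⟶ T) [LocallyOfFiniteType f]
    [QuasiCompact f] :
    ∃ Z : ℕ → TopologicalSpace.Closeds T, (∀ n, (Z n : Set T) ≠ Set.univ) ∧
      ∀ t : T, IsClosed ({t} : Set T) → (∀ n, t ∉ Z n) →
        Nonempty (f.fiber t ≅ pullback f (Spec.map (CommRingCat.ofHom (algebraMap
          (T.residueField (genericPoint T)) (AlgebraicClosure (T.residueField (genericPoint T))))) ≫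
            T.fromSpecResidueField (genericPoint T))) := by
  have hinf : Infinite k := inferInstance
  obtain ⟨_, ⟨U, hU, rfl⟩, hηU, -⟩ := (T.isBasis_affineOpens).exists_subset_of_mem_open
    (Set.mem_univ (genericPoint T)) isOpen_univ
  have hU' : IsAffineOpen U := hU
  have hTN : IsLocallyNoetherian T := LocallyOfFiniteType.isLocallyNoetherian sT
  have hAN : IsNoetherianRing Γ(T, U) := IsLocallyNoetherian.component_noetherian ⟨U, hU⟩
  have hne : Nonempty U := ⟨⟨_, hηU⟩⟩
  -- the model
  let p : pullback f hU'.fromSpec ⟶ Spec Γ(T, U) := pullback.snd f hU'.fromSpec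
  have hp1 : LocallyOfFinitePresentation p := LocallyOfFinitePresentation.iff_locallyOfFiniteType.mpr inferInstance
  have hp2 : QuasiCompact p := inferInstance
  have hXN : IsLocallyNoetherian (pullback f hU'.fromSpec) := LocallyOfFiniteType.isLocallyNoetherian p
  have hp3 : QuasiSeparated p := inferInstance
  obtain ⟨S, hS, X₀, f₀, g, -, -, -, hpb⟩ :=
    Groth.Agent.Flat2D.ApproxFP.exists_model_Spec Γ(T, U) p
  have hSc : Countable S := by
    have : Algebra.FiniteType ℤ S := (Subalgebra.fg_iff_finiteType _).1 hS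
    exact countable_of_finiteType S
  have hSc' : Countable {s : S // s ≠ 0} := inferInstance
  have hSne : Nonempty {s : S // s ≠ 0} := ⟨⟨1, one_ne_zero⟩⟩
  obtain ⟨e, he⟩ := exists_surjective_nat {s : S // s ≠ 0}
  have hgen : ∀ s : S, s ≠ 0 → genericPoint T ∈ T.basicOpen (s : Γ(T, U)) := by
    intro s hs
    have h1 : (T.basicOpen (s : Γ(T, U)) : Set T).Nonempty := by
      rw [Set.nonempty_iff_ne_empty]
      intro h
      apply hs
      apply Subtype.ext
      change (s : Γ(T, U)) = 0
      rw [← basicOpen_eq_bot_iff]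
      ext z
      simp [h]
    exact (genericPoint_spec T).mem_open_set_iff (T.basicOpen (s : Γ(T, U))).isOpen |>.mpr (by simpa using h1)
  refine ⟨fun n => ⟨(T.basicOpen ((e n).1 : Γ(T, U)) : Set T)ᶜ, (T.basicOpen _).isOpen.isClosed_compl⟩,
    fun n h => ?_, fun t ht htZ => ?_⟩
  · have h1 := hgen (e n).1 (e n).2
    have h2 : genericPoint T ∈ (T.basicOpen ((e n).1 : Γ(T, U)) : Set T)ᶜ := by
      rw [show (T.basicOpen ((e n).1 : Γ(T, U)) : Set T)ᶜ = Set.univ from h]
      trivial
    exact h2 h1
  · have htS : ∀ s : S, s ≠ 0 → t ∈ T.basicOpen (s : Γ(T, U)) := by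
      intro s hs
      obtain ⟨n, hn⟩ := he ⟨s, hs⟩
      have h1 := htZ n
      by_contra hcon
      apply h1
      change t ∈ (T.basicOpen ((e n).1 : Γ(T, U)) : Set T)ᶜ
      rw [hn]
      exact hcon
    have htU : t ∈ U := T.basicOpen_le _ (htS 1 one_ne_zero)
    -- the two algebraically closed fields
    let K := T.residueField t
    let L := AlgebraicClosure (T.residueField (genericPoint T))
    let a : S →+* K := (ev t htU).hom.comp S.val.toRingHom
    let b : S →+* L := (algebraMap (T.residueField (genericPoint T)) L).comp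
      ((ev (genericPoint T) hηU).hom.comp S.val.toRingHom)
    have ha : Function.Injective a := by
      rw [injective_iff_map_eq_zero]
      intro s hs
      by_contra hs0
      exact ev_ne_zero htU (htS s hs0) hs
    have hb : Function.Injective b := by
      rw [injective_iff_map_eq_zero]
      intro s hs
      by_contra hs0
      refine ev_ne_zero hηU (hgen s hs0) ?_
      exact (map_eq_zero_iff _ (algebraMap (T.residueField (genericPoint T)) L).injective).mp hs
    have hKc : IsAlgClosed K := isAlgClosed_residueField k sT t ht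
    have hcK : #K = #k := le_antisymm (card_residueField_le k sT hU' t htU) (le_card_residueField k sT t)
    have hcL : #L = #k := by
      apply le_antisymm
      · refine (Algebra.IsAlgebraic.cardinalMk_le_max (T.residueField (genericPoint T)) L).trans ?_
        exact max_le (card_residueField_le k sT hU' _ hηU) (Cardinal.aleph0_le_mk k)
      · exact (le_card_residueField k sT (genericPoint T)).trans
          (Cardinal.mk_le_of_injective (algebraMap (T.residueField (genericPoint T)) L).injective)
    have hKu : Uncountable K := by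
      rw [← Cardinal.aleph0_lt_mk_iff, hcK, Cardinal.aleph0_lt_mk_iff]
      infer_instance
    obtain ⟨ψ, hψ⟩ : ∃ ψ : K ≃+* L, ∀ s : S, ψ (a s) = b s := by
      let _ : Algebra S K := a.toAlgebra
      let _ : Algebra S L := b.toAlgebra
      have : FaithfulSMul S K := (faithfulSMul_iff_algebraMap_injective S K).mpr ha
      have : FaithfulSMul S L := (faithfulSMul_iff_algebraMap_injective S L).mpr hb
      exact AlgClosedIso.exists_ringEquiv hSc hKu (hcK.trans hcL.symm)
    -- the fibres
    have e1 := nonempty_iso hU'.fromSpec (Spec.map (CommRingCat.ofHom S.val.toRingHom)) g hpb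
      (Spec.map (ev t htU))
    have e2 := nonempty_iso hU'.fromSpec (Spec.map (CommRingCat.ofHom S.val.toRingHom)) g hpb
      (Spec.map (CommRingCat.ofHom (algebraMap (T.residueField (genericPoint T)) L)) ≫
        Spec.map (ev (genericPoint T) hηU))
    rw [← fromSpecResidueField_eq hU' t htU] at e1
    rw [Category.assoc, ← fromSpecResidueField_eq hU' (genericPoint T) hηU] at e2
    let j : T.residueField t ⟶ CommRingCat.of L := CommRingCat.ofHom (ψ.toRingHom : T.residueField t →+* L)
    have hj : IsIso j := (ConcreteCategory.isIso_iff_bijective j).mpr ψ.bijective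
    have hcomp : Spec.map j ≫ Spec.map (ev t htU) ≫ Spec.map (CommRingCat.ofHom S.val.toRingHom) =
        (Spec.map (CommRingCat.ofHom (algebraMap (T.residueField (genericPoint T)) L)) ≫
        Spec.map (ev (genericPoint T) hηU)) ≫ Spec.map (CommRingCat.ofHom S.val.toRingHom) := by
      simp only [← Spec.map_comp]
      congr 1
      ext s
      exact hψ s
    have e3 := nonempty_iso_of_isIso (f₀ := f₀) (Spec.map j) (Spec.map (ev t htU) ≫ Spec.map (CommRingCat.ofHom S.val.toRingHom))
    rw [hcomp] at e3
    exact ⟨e1.some ≪≫ e3.some.symm ≪≫ e2.some.symm⟩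

end Main

end K431.GeomGenFib
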