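import Mathlib.RingTheory.NoetherNormalization
import Mathlib.RingTheory.Ideal.GoingUp
import Mathlib.AlgebraicGeometry.Morphisms.FiniteType
import Mathlib.Data.Set.Countable
import Mathlib.Algebra.Polynomial.Roots
import Mathlib.Algebra.MvPolynomial.Equiv

/-!
# Avoiding countably many hypersurfaces over an uncountable field

* `exists_eval_ne_zero`: countably many nonzero polynomials over an uncountable field have a common
  point where none vanishes.
* `exists_isMaximal_notMem`: countably many nonzero elements of a finitely generated domain over an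
  uncountable field avoid some maximal ideal.
-/

set_option autoImplicit false
universe u

open AlgebraicGeometry CategoryTheory

namespace K431.Uncount

/-- Countably many nonzero univariate polynomials over an uncountable field: a common non-root. -/
theorem exists_eval_ne_zero_uni {k : Type*} [Field k] [Uncountable k] (f : ℕ → Polynomial k)
    (hf : ∀ n, f n ≠ 0) : ∃ a : k, ∀ n, (f n).eval a ≠ 0 := by
  have hc : (⋃ n, {a : k | (f n).eval a = 0}).Countable := by
    classical
    refine Set.countable_iUnion fun n => Set.Finite.countable ?_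
    refine ((f n).roots.toFinset.finite_toSet).subset fun a ha => ?_
    rw [Finset.mem_coe, Multiset.mem_toFinset, Polynomial.mem_roots']
    exact ⟨hf n, ha⟩
  by_contra h
  push Not at h
  have : (Set.univ : Set k).Countable := hc.mono fun a _ => by
    obtain ⟨n, hn⟩ := h a
    exact Set.mem_iUnion.mpr ⟨n, hn⟩
  exact not_countable (Set.countable_univ_iff.mp this)

/-- Countably many nonzero polynomials in `d` variables over an uncountable field: a common
point of nonvanishing. -/
theorem exists_eval_ne_zero {k : Type*} [Field k] [Uncountable k] :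
    ∀ (d : ℕ) (f : ℕ → MvPolynomial (Fin d) k), (∀ n, f n ≠ 0) →
      ∃ a : Fin d → k, ∀ n, MvPolynomial.eval a (f n) ≠ 0
  | 0, f, hf => ⟨Fin.elim0, fun n h => hf n (by
      rw [MvPolynomial.eq_C_of_isEmpty (f n)] at h ⊢
      rw [MvPolynomial.eval_C] at h
      rw [h, map_zero])⟩
  | d + 1, f, hf => by
      let g : ℕ → Polynomial (MvPolynomial (Fin d) k) := fun n => MvPolynomial.finSuccEquiv k d (f n)
      have hg : ∀ n, g n ≠ 0 := fun n h => hf n ((MvPolynomial.finSuccEquiv k d).injective (by
        rw [map_zero]; exact h))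
      obtain ⟨a, ha⟩ := exists_eval_ne_zero d (fun n => (g n).leadingCoeff) fun n h =>
        hg n (Polynomial.leadingCoeff_eq_zero.mp h)
      obtain ⟨b, hb⟩ := exists_eval_ne_zero_uni (fun n => (g n).map (MvPolynomial.eval a)) fun n h => by
        have h1 := congrArg (fun p => Polynomial.coeff p (g n).natDegree) h
        rw [Polynomial.coeff_map, Polynomial.coeff_zero] at h1
        exact ha n h1
      refine ⟨Fin.cons b a, fun n h => hb n ?_⟩
      rw [MvPolynomial.eval_eq_eval_mv_eval'] at h
      exact h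

/-- Countably many nonzero elements of a finitely generated domain over an uncountable field avoid
a common maximal ideal. -/
theorem exists_isMaximal_notMem {k A : Type*} [Field k] [Uncountable k] [CommRing A] [IsDomain A]
    [Algebra k A] [Algebra.FiniteType k A] (f : ℕ → A) (hf : ∀ n, f n ≠ 0) :
    ∃ m : Ideal A, m.IsMaximal ∧ ∀ n, f n ∉ m := by
  obtain ⟨s, g, hg, hint⟩ := exists_integral_inj_algHom_of_fg k A
  let _ := g.toRingHom.toAlgebra
  have hI : Algebra.IsIntegral (MvPolynomial (Fin s) k) A := ⟨hint⟩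
  have hinj : Function.Injective (algebraMap (MvPolynomial (Fin s) k) A) := hg
  have h1 : ∀ n, ∃ h : MvPolynomial (Fin s) k, h ≠ 0 ∧ algebraMap _ A h ∈ Ideal.span {f n} := by
    intro n
    have h2 := Ideal.comap_ne_bot_of_integral_mem (R := MvPolynomial (Fin s) k) (hf n)
      (Ideal.mem_span_singleton_self (f n)) (Algebra.IsIntegral.isIntegral _)
    obtain ⟨h, hh, hh0⟩ := Submodule.exists_mem_ne_zero_of_ne_bot h2
    exact ⟨h, hh0, hh⟩
  choose h hh0 hh using h1
  obtain ⟨a, ha⟩ := exists_eval_ne_zero s h hh0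
  have hmax : (RingHom.ker (MvPolynomial.eval a)).IsMaximal :=
    RingHom.ker_isMaximal_of_surjective _ fun c => ⟨MvPolynomial.C c, MvPolynomial.eval_C c⟩
  obtain ⟨Q, hQ, hQa⟩ := Ideal.exists_ideal_over_maximal_of_isIntegral (S := A)
    (RingHom.ker (MvPolynomial.eval a)) (by
      rw [(RingHom.injective_iff_ker_eq_bot _).mp hinj]
      exact bot_le)
  refine ⟨Q, hQ, fun n hn => ha n ?_⟩
  have h3 : h n ∈ Q.comap (algebraMap (MvPolynomial (Fin s) k) A) :=
    (Ideal.span_singleton_le_iff_mem _).mpr hn (hh n)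
  rw [hQa] at h3
  exact h3

/-- The same for elements which are not nilpotent, in a finitely generated algebra whose spectrum
is irreducible. -/
theorem exists_isMaximal_notMem' {k A : Type*} [Field k] [Uncountable k] [CommRing A]
    [Algebra k A] [Algebra.FiniteType k A] (hA : (nilradical A).IsPrime) (f : ℕ → A)
    (hf : ∀ n, ¬ IsNilpotent (f n)) : ∃ m : Ideal A, m.IsMaximal ∧ ∀ n, f n ∉ m := by
  have : IsDomain (A ⧸ nilradical A) := Ideal.Quotient.isDomain _
  obtain ⟨m, hm, h⟩ := exists_isMaximal_notMem (k := k) (A := A ⧸ nilradical A)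
    (fun n => Ideal.Quotient.mk _ (f n)) fun n h => hf n (by
      rw [Ideal.Quotient.eq_zero_iff_mem] at h
      exact h)
  exact ⟨m.comap (Ideal.Quotient.mk _), Ideal.comap_isMaximal_of_surjective _ Ideal.Quotient.mk_surjective,
    fun n hn => h n hn⟩

/-- The closed points of an irreducible scheme of finite type over an uncountable field are not
covered by countably many proper closed subsets; moreover the closed point can be chosen in any
given nonempty open. -/
theorem exists_closedPoint (k : Type u) [Field k] [Uncountable k]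
    (X : Scheme.{u}) (sX : X ⟶ Spec (CommRingCat.of k)) [IrreducibleSpace X]
    [LocallyOfFiniteType sX]
    (Z : ℕ → Set X) (hZc : ∀ n, IsClosed (Z n)) (hZ : ∀ n, Z n ≠ Set.univ)
    (V : X.Opens) (hV : (V : Set X).Nonempty) :
    ∃ x : X, x ∈ V ∧ IsClosed ({x} : Set X) ∧ ∀ n, x ∉ Z n := by
  have hJ : JacobsonSpace X := LocallyOfFiniteType.jacobsonSpace sX
  obtain ⟨y, hy⟩ := hV
  obtain ⟨_, ⟨U, hU, rfl⟩, hyU, hUV⟩ := (X.isBasis_affineOpens).exists_subset_of_mem_open hy V.isOpen
  have hU' : IsAffineOpen U := hU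
  have hft : (hU'.fromSpec ≫ sX).appTop.hom.FiniteType :=
    (HasRingHomProperty.iff_of_isAffine (P := @LocallyOfFiniteType)).mp inferInstance
  let φ : k →+* Γ(X, U) := ((Scheme.ΓSpecIso Γ(X, U)).hom.hom.comp (hU'.fromSpec ≫ sX).appTop.hom).comp
    (Scheme.ΓSpecIso (CommRingCat.of k)).inv.hom
  let _ : Algebra k Γ(X, U) := φ.toAlgebra
  have hft' : Algebra.FiniteType k Γ(X, U) := by
    refine RingHom.FiniteType.comp (RingHom.FiniteType.comp ?_ hft) ?_
    · exact RingHom.FiniteType.of_surjective _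
        (ConcreteCategory.bijective_of_isIso (Scheme.ΓSpecIso Γ(X, U)).hom).2
    · exact RingHom.FiniteType.of_surjective _
        (ConcreteCategory.bijective_of_isIso (Scheme.ΓSpecIso (CommRingCat.of k)).inv).2
  have hemb := hU'.fromSpec.isOpenEmbedding
  have hne : Nonempty (Spec Γ(X, U)) := by
    obtain ⟨z, -⟩ : y ∈ Set.range hU'.fromSpec := by rw [hU'.range_fromSpec]; exact hyU
    exact ⟨z⟩
  have hirr : IrreducibleSpace (PrimeSpectrum Γ(X, U)) := hemb.irreducibleSpace
  have hnil : (nilradical Γ(X, U)).IsPrime := PrimeSpectrum.irreducibleSpace_iff_isPrime_nilradical.mp hirr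
  have h1 : ∀ n, ∃ f : Γ(X, U), ¬ IsNilpotent f ∧
      ((PrimeSpectrum.basicOpen f : Set (PrimeSpectrum Γ(X, U))) ⊆ hU'.fromSpec ⁻¹' (Z n)ᶜ) := by
    intro n
    have h2 : (Z n)ᶜ.Nonempty := Set.nonempty_compl.mpr (hZ n)
    have h3 : ((Z n)ᶜ ∩ (U : Set X)).Nonempty :=
      nonempty_preirreducible_inter (hZc n).isOpen_compl U.isOpen h2 ⟨y, hyU⟩
    obtain ⟨w, hw, hwU⟩ := h3
    obtain ⟨z, rfl⟩ : w ∈ Set.range hU'.fromSpec := by rw [hU'.range_fromSpec]; exact hwU
    have h4 : IsOpen (hU'.fromSpec ⁻¹' (Z n)ᶜ) := (hZc n).isOpen_compl.preimage hU'.fromSpec.continuous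
    obtain ⟨_, ⟨_, ⟨f, rfl⟩, rfl⟩, hzf, hf⟩ :=
      PrimeSpectrum.isBasis_basic_opens.exists_subset_of_mem_open (show z ∈ hU'.fromSpec ⁻¹' (Z n)ᶜ from hw) h4
    refine ⟨f, fun hn => ?_, hf⟩
    have h5 : PrimeSpectrum.basicOpen f = ⊥ := PrimeSpectrum.basicOpen_eq_bot_iff f |>.mpr hn
    rw [h5] at hzf
    exact hzf
  choose f hf hfZ using h1
  obtain ⟨m, hm, hfm⟩ := exists_isMaximal_notMem' (k := k) hnil f hf
  let z : Spec Γ(X, U) := (⟨m, hm.isPrime⟩ : PrimeSpectrum Γ(X, U))
  have hz : IsClosed ({z} : Set (Spec Γ(X, U))) := (PrimeSpectrum.isClosed_singleton_iff_isMaximal _).mpr hm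
  refine ⟨hU'.fromSpec z, hUV ?_, ?_, fun n hn => ?_⟩
  · rw [← hU'.range_fromSpec]
    exact ⟨z, rfl⟩
  · have h6 : z ∈ closedPoints (Spec Γ(X, U)) := hz
    rw [← hemb.preimage_closedPoints] at h6
    exact h6
  · exact hfZ n (show z ∈ (PrimeSpectrum.basicOpen (f n) : Set (PrimeSpectrum Γ(X, U))) from hfm n) hn

end K431.Uncount
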