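import Groth.Agent.Variety.K431.DiagSurj
import Groth.Agent.Variety.K431.BiLine
import Groth.Agent.Variety.K431.BiProj
import Groth.Agent.Variety.K428.Reg
import Groth.Agent.KRR.K535.Lam2Div
import Groth.Agent.Brauer.K439.TwMul
import Groth.Agent.CurvesC.CurveNum
import Groth.Agent.Ega3B.SecHom
import Groth.Agent.TwC.K776.Van
import Groth.Agent.Fga.EulerLEAdd
import Groth.Agent.S0844
import Groth.Agent.CohqA.IdealMod
import Groth.Agent.Ega3B.ProjFrame
import Groth.Prelude.Def_W4c3multigrregularBiProj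

/-!
# Bigraded regularity of a curve in the diagonal of `P^r × P^r`

`main`: let `i : C → P^r × P^r` be a closed immersion with `i ≫ pr₁ = i ≫ pr₂ = j` and `C` of dimension one. If the
ideal sheaf of `j` is `(p+1)`-regular and `p ≥ 1`, then the ideal sheaf of `i` is `(p, p)`-regular.
-/

set_option autoImplicit false
universe u
open CategoryTheory CategoryTheory.Limits AlgebraicGeometry Opposite TopologicalSpace

namespace Groth.Agent.Variety.K431.DiagCurve

open Groth.Agent Groth.Agent.Variety.K431.DiagSurj W4c3multigrregular K800.MulMap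

section Curve

variable {k : Type u} [Field k] {r : ℕ} {C : Scheme.{u}} (j : C ⟶ CohB1.ProjSpace r k) [IsClosedImmersion j]

theorem isMRegular_ge {F : (CohB1.ProjSpace r k).Modules} (hF : Coh.IsCoh F) {m m' : ℤ}
    (h : Curv2.IsMRegular k r F m) (hm : m ≤ m') : Curv2.IsMRegular k r F m' := by
  induction m', hm using Int.leInduction with
  | base => exact h
  | succ a _ ih => exact S1642.result k r F hF a ih

theorem isInvertible_tw (t : ℤ) : PicF.IsInvertible (Twist.twistProjSpace r k t) :=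
  Ega3B.ProjFrame.isInvertible_twistProjSpace r k t

theorem isFinLocFree_tw (t : ℤ) : FlatMod.IsFinLocFree (Twist.twistProjSpace r k t) :=
  K431.BiLine.isFinLocFree_of_isInvertible (isInvertible_tw t)

theorem isCoh_idealMod {X : Scheme.{u}} [IsNoetherian X] (J : X.IdealSheafData) : Coh.IsCoh (ClSub.idealMod J) :=
  ⟨CohqA.IdealMod.isQCoh_idealMod J, CohqA.IdealMod.isFT_idealMod J fun U => by
    have : IsNoetherianRing Γ(X, U.1) := IsLocallyNoetherian.component_noetherian U
    exact IsNoetherian.noetherian _⟩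

omit [IsClosedImmersion j] in
theorem isCoh_ideal : Coh.IsCoh (ClSub.idealMod j.ker) :=
  have := Gaga.H883.Serre.isNoetherian_projSpace r k
  isCoh_idealMod _

/-- Global sections of `O(t)` restrict onto those of `j^* O(t)` for `t ≥ m - 1`. -/
theorem sur_tw {m : ℤ} (hreg : Curv2.IsMRegular k r (ClSub.idealMod j.ker) m) (t : ℤ) (ht : m - 1 ≤ t) :
    Sur j (Twist.twistProjSpace r k t) := by
  obtain ⟨w, hS⟩ := K535.Lam2Div.shortExact_unit j (isFinLocFree_tw (k := k) (r := r) t)
  have h1 := K428.Reg.vanish (isCoh_ideal j).1 (isMRegular_ge (isCoh_ideal j) hreg (m' := t + 1) (by omega)) 1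
    le_rfl t (by push_cast; ring)
  exact Ega3B.SecHom.surjective_app_top hS h1

/-- `H^1(C, j^* O(t)) = 0` for `t ≥ m - 2`. -/
theorem h1_tw (hr : 2 ≤ r) {m : ℤ} (hreg : Curv2.IsMRegular k r (ClSub.idealMod j.ker) m) (t : ℤ) (ht : m - 2 ≤ t) :
    Subsingleton (Coh.HH C ((Scheme.Modules.pullback j).obj (Twist.twistProjSpace r k t)) 1) := by
  obtain ⟨w, hS⟩ := K535.Lam2Div.shortExact_unit j (isFinLocFree_tw (k := k) (r := r) t)
  have h2 := K428.Reg.vanish (isCoh_ideal j).1 (isMRegular_ge (isCoh_ideal j) hreg (m' := t + 2) (by omega)) 2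
    (by omega) t (by push_cast; ring)
  have h3 := K428.Reg.right hS 1 (S0844.result k r t 1 (by omega) (by omega)) h2
  exact (CurvesC.CurveNum.hhPush j _ 1).toEquiv.subsingleton_congr.mpr h3

end Curve

section Main

variable {k : Type u} [Field k] {r : ℕ}

theorem vanish_line {p : ℤ} (hp : 1 ≤ p) (u₁ u₂ : ℕ) (hu : 0 < u₁ + u₂) :
    Subsingleton (Coh.HH (biProj r r k) (lineBundle r r k (p - u₁) (p - u₂)) (u₁ + u₂)) := by
  refine K431.BiLine.subsingleton_HH r r k _ _ _ fun i hi => ?_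
  by_cases h1 : (i = 0 ∧ 0 ≤ p - u₁) ∨ (i = r ∧ p - u₁ ≤ -((r : ℤ) + 1))
  · right
    refine S0844.result k r _ _ (by omega) (by omega)
  · left
    refine S0844.result k r _ _ (by omega) (by omega)

/-- The restriction of `O(a, b)` to a subscheme of the diagonal. -/
theorem nonempty_restr {C : Scheme.{u}} (i : C ⟶ biProj r r k) (j : C ⟶ CohB1.ProjSpace r k)
    (h₁ : i ≫ biProj.fst r r k = j) (h₂ : i ≫ biProj.snd r r k = j) (a b : ℤ) :
    Nonempty ((Scheme.Modules.pullback i).obj (lineBundle r r k a b) ≅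
      (Scheme.Modules.pullback j).obj (Twist.twistProjSpace r k (a + b))) := by
  obtain ⟨e₁, -⟩ := exists_iso i _ j h₁ (Twist.twistProjSpace r k a)
  obtain ⟨e₂, -⟩ := exists_iso i _ j h₂ (Twist.twistProjSpace r k b)
  obtain ⟨e'⟩ := Sga67.TwistProj.nonempty_mul r k a b
  exact ⟨Ega3B.PullTensor.pullTensorIso i
      (PerfB.LimMod.isInvertible_pullback _ (isInvertible_tw a))
      (PerfB.LimMod.isInvertible_pullback _ (isInvertible_tw b)) ≪≫
    Ega2.Tens.mapTIso e₁ e₂ ≪≫
    (Ega3B.PullTensor.pullTensorIso j (isInvertible_tw a) (isInvertible_tw b)).symm ≪≫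
    (Scheme.Modules.pullback j).mapIso e'⟩

theorem vanish_one {C : Scheme.{u}} (i : C ⟶ biProj r r k)
    [IsClosedImmersion i] (j : C ⟶ CohB1.ProjSpace r k) [IsClosedImmersion j]
    (h₁ : i ≫ biProj.fst r r k = j) (h₂ : i ≫ biProj.snd r r k = j) {m : ℤ}
    (hreg : Curv2.IsMRegular k r (ClSub.idealMod j.ker) m) (a b : ℤ) (ha : 0 ≤ a) (hb : 0 ≤ b) (hab : m - 1 ≤ a + b)
    (hN : Subsingleton (Coh.HH (biProj r r k) (lineBundle r r k a b) 1)) :
    Subsingleton (Coh.HH (biProj r r k) (twistBi r r k (ClSub.idealMod i.ker) a b) 1) := by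
  lift a to ℕ using ha
  lift b to ℕ using hb
  obtain ⟨w, hS⟩ := K535.Lam2Div.shortExact_unit i (K431.BiLine.isFinLocFree_lineBundle r r k a b)
  refine K776.PicDef.subsingleton_left_one hS hN ?_
  refine sur_prod i _ _ j h₁ h₂ (isInvertible_tw _) (isInvertible_tw _) (K439.TwMul.mulSurj_twist a b) ?_
  obtain ⟨e'⟩ := Sga67.TwistProj.nonempty_mul r k a b
  exact Sur.of_iso e'.symm (sur_tw j hreg _ hab)

theorem main (hr : 2 ≤ r) {C : Scheme.{u}} (hdim : topologicalKrullDim C ≤ 1) (i : C ⟶ biProj r r k)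
    [IsClosedImmersion i] (j : C ⟶ CohB1.ProjSpace r k) [IsClosedImmersion j]
    (h₁ : i ≫ biProj.fst r r k = j) (h₂ : i ≫ biProj.snd r r k = j) {p : ℤ} (hp : 1 ≤ p)
    (hreg : Curv2.IsMRegular k r (ClSub.idealMod j.ker) (p + 1)) :
    IsBiReg r r k (ClSub.idealMod i.ker) p p := by
  have hC : IsNoetherian C := by
    have := Gaga.H883.Serre.isNoetherian_projSpace r k
    have h1 : IsLocallyNoetherian C := LocallyOfFiniteType.isLocallyNoetherian j
    have h2 : CompactSpace C := QuasiCompact.compactSpace_of_compactSpace j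
    exact {}
  intro u₁ u₂ hu
  have hN := vanish_line (k := k) (r := r) hp u₁ u₂ hu
  rcases Nat.lt_or_ge 1 (u₁ + u₂) with h2 | h2
  · obtain ⟨q, hq⟩ : ∃ q, u₁ + u₂ = q + 1 := ⟨u₁ + u₂ - 1, by omega⟩
    obtain ⟨w, hS⟩ := K535.Lam2Div.shortExact_unit i (K431.BiLine.isFinLocFree_lineBundle r r k (p - u₁) (p - u₂))
    obtain ⟨e⟩ := nonempty_restr i j h₁ h₂ (p - u₁) (p - u₂)
    rw [hq] at hN ⊢
    refine K428.Reg.left hS q hN ?_
    refine (CurvesC.CurveNum.hhPush i _ q).toEquiv.subsingleton_congr.mp ?_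
    rcases Nat.lt_or_ge 1 q with h3 | h3
    · exact Fga.EulerLEAdd.subsingleton_HH C 1 hdim _ q h3
    · obtain rfl : q = 1 := by omega
      exact Fga.HShift.subsingleton_of_iso e.symm 1 (h1_tw j hr hreg _ (by omega))
  · have h1 : u₁ + u₂ = 1 := by omega
    rw [h1] at hN ⊢
    exact vanish_one i j h₁ h₂ hreg _ _ (by omega) (by omega) (by omega) hN

end Main

end Groth.Agent.Variety.K431.DiagCurve
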