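import Groth.Agent.Curves.K328.PlaneGenus
import Groth.Agent.Variety.K431.DiagCurve
import Groth.Agent.VarietyB.EulerBinom
import Groth.Agent.S1524
import Groth.Agent.CycB.CohProp
import Groth.Agent.Ega1.QcqsPush

/-!
# Regularity of plane curves

`main`: the ideal sheaf of an integral plane curve `C` is `deg C`-regular.
-/

set_option autoImplicit false
universe u
open CategoryTheory CategoryTheory.Limits AlgebraicGeometry Opposite TopologicalSpace

namespace Groth.Agent.Variety.K431.PlaneReg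

open Groth.Agent Groth.Agent.Variety.K431.DiagCurve

theorem N_two (k : Type u) [Field k] (d : ℕ) : 2 * (VarietyB.EulerBinom.N 2 d : ℤ) = (d + 1) * (d + 2) := by
  rw [← VarietyB.EulerBinom.finrank_homogeneous k 2 d, K581.HomDim.finrank_homogeneous k 2 d]
  have h := Nat.add_one_mul_choose_eq (d + 1) 1
  rw [Nat.choose_one_right] at h
  have h2 : (((d + 1 : ℕ) : ℤ) + 1) * ((d + 1 : ℕ) : ℤ) = ((d + 2).choose 2 : ℤ) * 2 := by exact_mod_cast h
  rw [mul_comm, ← h2]
  push_cast
  ring

theorem c_two (k : Type u) [Field k] (t : ℤ) : 2 * VarietyB.EulerBinom.c 2 t = (t + 1) * (t + 2) := by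
  unfold VarietyB.EulerBinom.c
  split_ifs with h1 h2
  · obtain ⟨d, rfl⟩ := Int.eq_ofNat_of_zero_le h1
    rw [Int.toNat_natCast, N_two k]
  · push_cast at h2
    obtain ⟨d, hd⟩ := Int.eq_ofNat_of_zero_le (show 0 ≤ -(2 + 1) - t by omega)
    have h3 : (-(((2 : ℕ) : ℤ) + 1) - t).toNat = d := by push_cast; omega
    rw [h3]
    have h4 : t = -3 - d := by omega
    have := N_two k d
    rw [h4]
    push_cast
    linear_combination this
  · push_cast at h2
    have h3 : t = -1 ∨ t = -2 := by omega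
    rcases h3 with rfl | rfl <;> norm_num

variable {k : Type u} [Field k] {C : Scheme.{u}} [C.Over (Spec (CommRingCat.of k))]
  (j : C ⟶ CohB1.ProjSpace 2 k) [IsClosedImmersion j]

theorem euler_restr (hj : j ≫ CohB1.ProjSpace.toSpec 2 k = (C ↘ (Spec (CommRingCat.of k)))) (f : ℤ)
    (e : ClSub.idealMod j.ker ≅ Twist.twistProjSpace 2 k f) (t : ℤ) :
    Curv2.euler k C ((Scheme.Modules.pullback j).obj (Twist.twistProjSpace 2 k t)) =
      VarietyB.EulerBinom.c 2 t - VarietyB.EulerBinom.c 2 (f + t) := by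
  have hN := Gaga.H883.Serre.isNoetherian_projSpace 2 k
  obtain ⟨w, hS⟩ := K535.Lam2Div.shortExact_unit j (isFinLocFree_tw (k := k) (r := 2) t)
  obtain ⟨e2⟩ := Sga67.TwistProj.nonempty_mul 2 k f t
  have e1 : CohB1.tensorMod (ClSub.idealMod j.ker) (Twist.twistProjSpace 2 k t) ≅ Twist.twistProjSpace 2 k (f + t) :=
    Ega2.Tens.mapTIso e (Iso.refl _) ≪≫ e2
  have c2 : Coh.IsCoh (Twist.twistProjSpace 2 k t) := Gaga.H883.Serre.isCoh_O 2 k t
  have c1 : Coh.IsCoh (CohB1.tensorMod (ClSub.idealMod j.ker) (Twist.twistProjSpace 2 k t)) :=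
    Sga67.CohBasic.isCoh_of_iso e1.symm (Gaga.H883.Serre.isCoh_O 2 k (f + t))
  have c3 : Coh.IsCoh ((Scheme.Modules.pushforward j).obj
      ((Scheme.Modules.pullback j).obj (Twist.twistProjSpace 2 k t))) := by
    have := hS.epi_g
    exact CycB.CohProp.isCoh_of_epi ((Scheme.Modules.pullbackPushforwardAdjunction j).unit.app
      (Twist.twistProjSpace 2 k t)) c2
      (Ega1.QcqsPush.isQCoh_pushforward j _ (FormalA.PullbackQC.isQCoh_pullback j _ c2.1))
  have h := S1524.result k _ _ hS c1 c2 c3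
  have h3 : Curv2.euler k C ((Scheme.Modules.pullback j).obj (Twist.twistProjSpace 2 k t)) =
      Curv2.euler k (CohB1.ProjSpace 2 k) ((Scheme.Modules.pushforward j).obj
      ((Scheme.Modules.pullback j).obj (Twist.twistProjSpace 2 k t))) := by
    unfold Curv2.euler
    refine finsum_congr fun i => ?_
    rw [(CurvesC.CurveNum.hhPushₗ k j hj _ i).finrank_eq]
  have h1 := (CurvesB.SubEuler.euler_congr k e1).trans (VarietyB.EulerBinom.euler_twist k 2 (f + t))
  have h2 := VarietyB.EulerBinom.euler_twist k 2 t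
  have h' : Curv2.euler k (CohB1.ProjSpace 2 k) (Twist.twistProjSpace 2 k t) =
    Curv2.euler k (CohB1.ProjSpace 2 k) (CohB1.tensorMod (ClSub.idealMod j.ker) (Twist.twistProjSpace 2 k t)) +
    Curv2.euler k (CohB1.ProjSpace 2 k) ((Scheme.Modules.pushforward j).obj
      ((Scheme.Modules.pullback j).obj (Twist.twistProjSpace 2 k t))) := h
  rw [h1, h2, ← h3] at h'
  linarith

theorem deg_eq (hj : j ≫ CohB1.ProjSpace.toSpec 2 k = (C ↘ (Spec (CommRingCat.of k)))) (f : ℤ)
    (e : ClSub.idealMod j.ker ≅ Twist.twistProjSpace 2 k f) :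
    Curv2.deg k C ((Scheme.Modules.pullback j).obj (Twist.twistProjSpace 2 k 1)) 1 = -f := by
  obtain ⟨e0⟩ := Ega2.TwistInv.nonempty_unit_iso (CohB1.polyGrading 2 k)
  have e0' : Coh.structureModule (CohB1.ProjSpace 2 k) ≅ Twist.twistProjSpace 2 k 0 := e0
  have h0 : Curv2.euler k C (Coh.structureModule C) =
      Curv2.euler k C ((Scheme.Modules.pullback j).obj (Twist.twistProjSpace 2 k 0)) :=
    CurvesB.SubEuler.euler_congr k ((PerfB.TensUnit.pullbackUnit j).symm ≪≫ (Scheme.Modules.pullback j).mapIso e0')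
  unfold Curv2.deg
  rw [h0, euler_restr j hj f e 0, euler_restr j hj f e 1]
  have a1 := c_two k 1
  have a2 := c_two k (f + 1)
  have a3 := c_two k 0
  have a4 := c_two k (f + 0)
  rw [← mul_left_cancel_iff_of_pos (show (0 : ℤ) < 2 by norm_num)]
  push_cast
  linear_combination a1 - a2 - a3 + a4

omit [C.Over (Spec (CommRingCat.of k))] [IsClosedImmersion j] in
theorem reg (f : ℤ) (e : ClSub.idealMod j.ker ≅ Twist.twistProjSpace 2 k f) :
    Curv2.IsMRegular k 2 (ClSub.idealMod j.ker) (-f) := by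
  refine K428.Reg.IsMRegular.congr e.symm fun i hi hi2 => ?_
  obtain ⟨e2⟩ := Sga67.TwistProj.nonempty_mul 2 k f (-f - i)
  exact Fga.HShift.subsingleton_of_iso e2.symm i (S0844.result k 2 _ i (by omega) (by push_cast; omega))

theorem main [IsIntegral C] (hdim : topologicalKrullDim C = 1)
    (hj : j ≫ CohB1.ProjSpace.toSpec 2 k = (C ↘ (Spec (CommRingCat.of k)))) :
    Curv2.IsMRegular k 2 (ClSub.idealMod j.ker)
      (Curv2.deg k C ((Scheme.Modules.pullback j).obj (Twist.twistProjSpace 2 k 1)) 1) := by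
  let D := j.ker
  let e : C ⟶ D.subscheme := j.toImage
  have hiso : IsIso e := inferInstanceAs (IsIso j.toImage)
  have hne : Nonempty D.subscheme := ⟨e (genericPoint C)⟩
  have hint : IsIntegral D.subscheme := isIntegral_of_isOpenImmersion (inv e)
  have hd : topologicalKrullDim D.subscheme = 1 := by
    rw [← hdim]
    exact (IsHomeomorph.topologicalKrullDim_eq _ e.homeomorph.isHomeomorph).symm
  obtain ⟨f, ⟨ef⟩⟩ := S1697.result k 2 _ (K328.PlaneGenus.isInvertible_idealMod k D hd)
  rw [deg_eq j hj f ef]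
  exact reg j f ef

end Groth.Agent.Variety.K431.PlaneReg
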