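import Groth.Agent.Variety.K431.NegGrowth
import Groth.Agent.VarietyB.EulerBinom
import Groth.Agent.Ega4fib.H126.HilbSam
import Groth.Agent.Fga.HodgeSec
import Groth.Agent.Fga.TwistCoh
import Groth.Agent.S10962
import Groth.Agent.Sga67.TwistProj
import Groth.Agent.S14408
import Groth.Agent.CohqA.ProjDim

/-!
# Non-vanishing of the top cohomology of a twist of a coherent module on projective space
-/

set_option autoImplicit false
universe u
open CategoryTheory CategoryTheory.Limits AlgebraicGeometry Polynomial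

namespace Groth.Agent.Variety.K431.PnNonvan

open Groth.Agent Groth.Agent.VarietyB.EulerBinom Groth.Agent.Grpsch.PicGrp K433.Hq

variable (k : Type u) [Field k] (n : ℕ)

/-- `choose` as a polynomial. -/
theorem choose_eval (j : ℕ) (t : ℤ) :
    ((Ring.choose t j : ℤ) : ℚ) = ((C ((j.factorial : ℚ)⁻¹) * descPochhammer ℚ j).eval (t : ℚ)) := by
  have h1 : (j.factorial • Ring.choose t j : ℤ) = (descPochhammer ℤ j).eval t := by
    rw [← Ring.descPochhammer_eq_factorial_smul_choose, Polynomial.eval_eq_smeval]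
  have h2 : (((descPochhammer ℤ j).eval t : ℤ) : ℚ) = (descPochhammer ℚ j).eval (t : ℚ) :=
    descPochhammer_eval_cast ℚ j t
  rw [eval_mul, eval_C, ← h2, ← h1]
  have : (j.factorial : ℚ) ≠ 0 := by positivity
  rw [nsmul_eq_mul, Int.cast_mul, Int.cast_natCast, ← mul_assoc, inv_mul_cancel₀ this, one_mul]

/-- The Hilbert polynomial of a coherent module on projective space. -/
theorem exists_poly_int {F : (CohB1.ProjSpace n k).Modules} (hF : Coh.IsCoh F) :
    ∃ P : ℚ[X], ∀ m : ℤ, (Curv2.euler k (CohB1.ProjSpace n k)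
      (CohB1.tensorMod F (Twist.twistProjSpace n k m)) : ℚ) = P.eval (m : ℚ) := by
  refine ⟨∑ j : Fin (n + 1), C (((VarietyB.EulerDiff.dl^[(j : ℕ)] (fun t => Curv2.euler k (CohB1.ProjSpace n k)
      (CohB1.tensorMod F (Twist.twistProjSpace n k t))) 0 : ℤ) : ℚ)) *
      (C (((j : ℕ).factorial : ℚ)⁻¹) * descPochhammer ℚ j), fun m => ?_⟩
  rw [euler_newton k n hF _ (fun t => rfl) m, eval_finsetSum]
  push_cast
  refine Finset.sum_congr rfl fun j _ => ?_
  rw [eval_mul, ← choose_eval, eval_C]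

theorem inv_tw (m : ℤ) : PicF.IsInvertible (Twist.twistProjSpace n k m) :=
  Ega3B.ProjFrame.isInvertible_twistProjSpace n k m

theorem mk_add (a b : ℤ) : mk _ (inv_tw k n a) * mk _ (inv_tw k n b) = mk _ (inv_tw k n (a + b)) := by
  rw [mk_mul_mk, mk_eq_iff]
  exact Sga67.TwistProj.nonempty_mul n k a b

theorem mk_zero : mk _ (inv_tw k n 0) = 1 := by
  have h := mk_add k n 0 0
  rw [add_zero] at h
  exact mul_eq_left.mp h

theorem mk_neg (m : ℕ) : (mk _ (inv_tw k n 1))⁻¹ ^ m = mk _ (inv_tw k n (-(m : ℤ))) := by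
  induction m with
  | zero =>
    rw [pow_zero, ← mk_zero k n]
    rfl
  | succ m ih =>
    rw [pow_succ, ih, mul_inv_eq_iff_eq_mul, mk_add]
    congr 1
    push_cast
    ring_nf

theorem hh_neg (F : (CohB1.ProjSpace n k).Modules) (q : ℕ) (m : ℕ) :
    hq k q F ((mk _ (inv_tw k n 1))⁻¹ ^ m) =
      hh k (CohB1.tensorMod F (Twist.twistProjSpace n k (-(m : ℤ)))) q := by
  rw [mk_neg, hq_mk]

/-- A polynomial of degree `a ≥ 1` is not bounded by `C (m + 1)^(a - 1)` on the negative integers. -/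
theorem natDegree_ne {P : ℚ[X]} {a : ℕ} (ha : 1 ≤ a) (C : ℕ)
    (h : ∀ m : ℕ, |P.eval (-(m : ℚ))| ≤ C * ((m : ℚ) + 1) ^ (a - 1)) : P.natDegree ≠ a := by
  intro hP
  let Q : ℚ[X] := (P.comp (-X)) ^ 2
  have h1 : Q.natDegree = 2 * a := by
    rw [natDegree_pow, natDegree_comp, natDegree_neg, natDegree_X, mul_one, hP]
  have h2 : ∀ m : ℕ, Q.eval (m : ℚ) = (P.eval (-(m : ℚ))) ^ 2 := by
    intro m
    simp [Q]
  have h3 : Q.natDegree ≤ 2 * (a - 1) := by
    refine Ega4fib.H126.HilbSam.natDegree_le_of_upper (D := C ^ 2) (N := 0) (fun m _ => ?_) fun m _ => ?_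
    · rw [h2]
      positivity
    · rw [h2, ← sq_abs]
      calc |P.eval (-(m : ℚ))| ^ 2 ≤ (C * ((m : ℚ) + 1) ^ (a - 1)) ^ 2 := by
            gcongr
            exact h m
        _ = ((C ^ 2 : ℕ) : ℚ) * ((m : ℚ) + 1) ^ (2 * (a - 1)) := by
            push_cast
            ring
  omega

theorem exists_bound {F : (CohB1.ProjSpace n k).Modules} (hF : Coh.IsCoh F) (q : ℕ) :
    ∃ C : ℕ, ∀ m : ℕ, hh k (CohB1.tensorMod F (Twist.twistProjSpace n k (-(m : ℤ)))) q ≤
      C * (m + 1) ^ q := by
  have hp : IsProper ((CohB1.ProjSpace n k) ↘ (Spec (CommRingCat.of k))) :=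
    inferInstanceAs (IsProper (CohB1.ProjSpace.toSpec n k))
  obtain ⟨C, hC⟩ := NegGrowth.neg_growth k (S10962.isAmple_of_pos (n := n) (R := k) one_pos) q hF
  exact ⟨C, fun m => by rw [← hh_neg]; exact hC m⟩

theorem dim_mono {T : Type*} [TopologicalSpace T] {A B : Set T} (h : A ⊆ B) :
    topologicalKrullDim A ≤ topologicalKrullDim B :=
  (Topology.IsEmbedding.inclusion h).isInducing.topologicalKrullDim_le

variable {k n} in
theorem dim_tensor_le {G : (CohB1.ProjSpace n k).Modules} {m : ℤ} :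
    topologicalKrullDim (CohB1.support (CohB1.tensorMod G (Twist.twistProjSpace n k m))) ≤
      topologicalKrullDim (CohB1.support G) :=
  dim_mono (Fga.TwistCoh.support_tensor_subset (inv_tw k n m))

/-- **Non-vanishing**: some negative twist of a coherent module with support of dimension `a ≥ 1` has
non-zero cohomology in degree `a`. -/
theorem main [IsAlgClosed k] {G : (CohB1.ProjSpace n k).Modules} (hG : Coh.IsCoh G) (a : ℕ) (ha : 1 ≤ a)
    (hdim : topologicalKrullDim (CohB1.support G) = a) :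
    ∃ m : ℕ, Nontrivial (Coh.HH (CohB1.ProjSpace n k)
      (CohB1.tensorMod G (Twist.twistProjSpace n k (-(m : ℤ)))) a) := by
  by_contra hcon
  push Not at hcon
  have hp : IsProper ((CohB1.ProjSpace n k) ↘ (Spec (CommRingCat.of k))) :=
    inferInstanceAs (IsProper (CohB1.ProjSpace.toSpec n k))
  obtain ⟨P, hP⟩ := exists_poly_int k n hG
  choose C hC using fun q => exists_bound k n hG q
  have hcoh : ∀ m : ℤ, Coh.IsCoh (CohB1.tensorMod G (Twist.twistProjSpace n k m)) := fun m =>
    Fga.TwistCoh.isCoh_tensor hG (inv_tw k n m)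
  have hsum : ∀ m : ℤ, ((Finset.range (n + 1)).sum fun j => (-1 : ℚ) ^ j *
        (hh k (CohB1.tensorMod G (Twist.twistProjSpace n k m)) j : ℚ)) = P.eval (m : ℚ) := by
    intro m
    have h1 : Curv2.euler k (CohB1.ProjSpace n k) (CohB1.tensorMod G (Twist.twistProjSpace n k m)) =
        ∑ i ∈ Finset.range (n + 1), (-1 : ℤ) ^ i *
          (hh k (CohB1.tensorMod G (Twist.twistProjSpace n k m)) i : ℤ) :=
      VarietyA.EulerAdd.euler_eq_sum k _ (n + 1) fun i hi =>
        haveI := (hcoh m).1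
        S0022.result n k _ i (by omega)
    rw [← hP m, h1]
    push_cast
    rfl
  have hn : 0 < n := by
    have h1 : topologicalKrullDim (CohB1.support G) ≤ n :=
      (topologicalKrullDim_subspace_le _ _).trans (CohqA.ProjDim.topologicalKrullDim_le k n)
    rw [hdim] at h1
    have h2 : a ≤ n := by exact_mod_cast h1
    omega
  have hG0 : ¬ IsZero G := by
    intro h0
    have h1 : topologicalKrullDim (∅ : Set (CohB1.ProjSpace n k)) = ⊥ := by
      rw [topologicalKrullDim, Order.krullDim_eq_bot_iff]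
      exact ⟨fun Z => by
        obtain ⟨x, hx⟩ := Z.isIrreducible'.nonempty
        exact x.2⟩
    rw [CohqB.DevSupport.support_eq_empty_of_isZero h0, h1] at hdim
    exact WithBot.coe_ne_bot hdim.symm
  have hdeg : P.natDegree = a := by
    have h1 := S14408.result k n hn G hG hG0 P hsum
    rw [hdim] at h1
    exact_mod_cast h1.symm
  refine natDegree_ne ha (∑ j ∈ Finset.range (n + 1), C j) (fun m => ?_) hdeg
  have h1 := hsum (-(m : ℤ))
  push_cast at h1
  rw [← h1]
  refine (Finset.abs_sum_le_sum_abs _ _).trans ?_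
  push_cast
  rw [Finset.sum_mul]
  refine Finset.sum_le_sum fun j _ => ?_
  rw [abs_mul, abs_pow, abs_neg, abs_one, one_pow, one_mul, Nat.abs_cast]
  have h2 : hh k (CohB1.tensorMod G (Twist.twistProjSpace n k (-(m : ℤ)))) j ≤ C j * (m + 1) ^ (a - 1) := by
    rcases lt_trichotomy j a with hj | rfl | hj
    · refine (hC j m).trans ?_
      gcongr
      · omega
      · omega
    · rw [hh_of_subsingleton k (hcon m)]
      exact Nat.zero_le _
    · rw [hh_of_subsingleton k (Fga.HodgeSec.subsingleton_HH_of_support k (hcoh _) a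
        (dim_tensor_le.trans hdim.le) j hj)]
      exact Nat.zero_le _
  exact_mod_cast h2

end Groth.Agent.Variety.K431.PnNonvan
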