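import Groth.Agent.Variety.K431.SuppVan
import Groth.Agent.CycB.ClosedDev
import Groth.Agent.CycB.CohProp
import Groth.Agent.Flat2D.LocalGlobalH
import Groth.Agent.FormalA.Support
import Groth.Agent.Fga.HShift
import Groth.Agent.Sga67.CohBasic

/-!
# Vanishing of top higher direct images passes to the fibre

`slice_van`: `R^a p_* G = 0` and `dim (Supp G ∩ p⁻¹ x) ≤ a` imply `H^a(P, j^* G) = 0` for a closed immersion
`j : P ⟶ Z` into the fibre over `x`.
-/

set_option autoImplicit false

universe u

open CategoryTheory CategoryTheory.Limits AlgebraicGeometry TopologicalSpace Topology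

namespace Groth.Agent.Variety.K431.SliceVan

variable {P Z X : Scheme.{u}}

theorem slice_van (p : Z ⟶ X) [IsProper p] [IsLocallyNoetherian X] [IsLocallyNoetherian Z]
    [HasInjectiveResolutions Z.Modules] (j : P ⟶ Z) [IsClosedImmersion j] {G : Z.Modules} (hG : Coh.IsCoh G)
    (x : X) (hj : ∀ z : P, (j ≫ p) z = x) (a : ℕ)
    (hdim : topologicalKrullDim {z : Z // p.base z = x ∧ z ∈ CohB1.support G} ≤ a)
    (hvan : IsZero ((Coh.Rpush p a).obj G)) :
    Subsingleton (Coh.HH P ((Scheme.Modules.pullback j).obj G) a) := by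
  have hPi : HasInjectiveResolutions P.Modules := Krr.H485.LerayCl.hasInjectiveResolutions _
  let M := (Scheme.Modules.pullback j).obj G
  have hM : Coh.IsCoh M := ⟨FormalA.PullbackQC.isQCoh_pullback _ G hG.1,
    FormalA.PullbackQC.isFT_pullback _ G hG.2⟩
  let η := (Scheme.Modules.pullbackPushforwardAdjunction j).unit.app G
  have hη : Epi η := CycB.ClosedDev.epi_unit j G
  have hJM : Coh.IsCoh ((Scheme.Modules.pushforward j).obj M) := Sga67.CohBasic.isCoh_of_iso
    ((Scheme.Modules.pushforward j).rightDerivedZeroIsoSelf.app M) (S0036.result j M hM 0)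
  let S : ShortComplex Z.Modules := ShortComplex.mk (kernel.ι η) η (kernel.condition η)
  have hS : S.ShortExact :=
    { exact := ShortComplex.exact_of_f_is_kernel _ (kernelIsKernel η)
      mono_f := inferInstanceAs (Mono (kernel.ι η))
      epi_g := hη }
  have hK : Coh.IsCoh (kernel η) := CycB.CohProp.isCoh_kernel η hG hJM
  have hsub : CohB1.support (kernel η) ⊆ CohB1.support G := FormalA.Support.support_subset_of_mono (kernel.ι η)
  have hKd : topologicalKrullDim {z : Z // p.base z = x ∧ z ∈ CohB1.support (kernel η)} ≤ a := by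
    refine (IsInducing.topologicalKrullDim_le (f := fun z : {z : Z // p.base z = x ∧
      z ∈ CohB1.support (kernel η)} => (⟨z.1, z.2.1, hsub z.2.2⟩ :
        {z : Z // p.base z = x ∧ z ∈ CohB1.support G})) ?_).trans hdim
    refine IsInducing.of_comp (g := Subtype.val) ?_ continuous_subtype_val ?_
    · exact Continuous.subtype_mk continuous_subtype_val _
    · exact IsInducing.subtypeVal
  obtain ⟨V, hV, hxV, hKV⟩ := SuppVan.exists_affine p hK x a hKd (a + 1) (Nat.lt_succ_self a)
  have hGV : Subsingleton (Coh.HHon Z G (p ⁻¹ᵁ V) a) :=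
    Ega3B.RpushAff.subsingleton_HHon_of_isZero p G hG.1 hV a hvan
  have hR := hS.map_of_exact (Scheme.Modules.restrictFunctor (p ⁻¹ᵁ V).ι)
  have hJV : Subsingleton (Coh.HHon Z ((Scheme.Modules.pushforward j).obj M) (p ⁻¹ᵁ V) a) :=
    Fga.HShift.subsingleton₃ hR a hGV hKV
  have h1 := (Ega3B.RpushAff.subsingleton_iff p _ hJM.1 hV a).2 hJV
  obtain ⟨e⟩ := Krr.H485.LerayCl.nonempty_iso j p M a
  have h2 : Subsingleton Γ((Coh.Rpush (j ≫ p) a).obj M, V) := by
    have hinj : Function.Injective (e.hom.app V) := by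
      intro s t hst
      have h3 := congrArg (e.inv.app V) hst
      rw [← ConcreteCategory.comp_apply, ← ConcreteCategory.comp_apply, ← Scheme.Modules.Hom.comp_app,
        e.hom_inv_id] at h3
      exact h3
    exact ⟨fun s t => hinj (Subsingleton.elim _ _)⟩
  have h3 := (Ega3B.RpushAff.subsingleton_iff (j ≫ p) M hM.1 hV a).1 h2
  have htop : (j ≫ p) ⁻¹ᵁ V = ⊤ := by
    ext z
    simp only [TopologicalSpace.Opens.map_coe, Set.mem_preimage, SetLike.mem_coe, TopologicalSpace.Opens.coe_top,
      Set.mem_univ, iff_true]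
    rw [hj z]
    exact hxV
  rw [htop, ← Flat2D.LocalGlobalH.HU_iff_HHon, Flat2D.LocalGlobalH.HU_top_iff] at h3
  exact h3

end Groth.Agent.Variety.K431.SliceVan
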