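import Groth.Agent.Variety.K431.ExtSplit
import Groth.Agent.FormalB.ModPow
import Groth.Agent.Fga.MumInputs

/-!
# In characteristic zero `Λ^{n+1} E` is a direct factor of `E ⊗ Λ^n E`
-/

set_option autoImplicit false
universe u
open CategoryTheory CategoryTheory.Limits AlgebraicGeometry

namespace Groth.Agent.Variety.K431.ExtRetract

open Groth.Agent Groth.Agent.VarietyA.EulerLES

variable {X : Scheme.{u}}

theorem smulMod_natCast (k : Type u) [CommRing k] [X.Over (Spec (CommRingCat.of k))] (M : X.Modules)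
    (n : ℕ) : Formal.smulMod k M (n : k) = n • 𝟙 M := by
  induction n with
  | zero => rw [Nat.cast_zero, FormalB.ModPow.smulMod_zero, zero_smul]
  | succ n ih => rw [Nat.cast_succ, FormalB.ModPow.smulMod_add, ih, FormalB.ModPow.smulMod_one, succ_nsmul]

/-- In characteristic zero `Λ^{n+1} E` is a direct factor of `E ⊗ Λ^n E`. -/
theorem exists_retract (k : Type u) [Field k] [CharZero k] [X.Over (Spec (CommRingCat.of k))]
    {E L N : X.Modules} {n : ℕ} (hL : ExtPow.IsExtPow n E L) (hN : ExtPow.IsExtPow (n + 1) E N) :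
    ∃ (s : N ⟶ CohB1.tensorMod E L) (μ : CohB1.tensorMod E L ⟶ N), s ≫ μ = 𝟙 N := by
  obtain ⟨μ, s, h⟩ := ExtSplit.exists_split hL hN
  have h0 : ((Nat.factorial (n + 1) : ℕ) : k) ≠ 0 := Nat.cast_ne_zero.2 (Nat.factorial_ne_zero _)
  refine ⟨s, μ ≫ Formal.smulMod k N ((Nat.factorial (n + 1) : k)⁻¹), ?_⟩
  rw [← Category.assoc, h, ← smulMod_natCast k, ← FormalB.ModPow.smulMod_mul, inv_mul_cancel₀ h0,
    FormalB.ModPow.smulMod_one]

/-- Cohomology of a direct factor. -/
theorem subsingleton_of_retract {P Q : X.Modules} (s : P ⟶ Q) (μ : Q ⟶ P) (h : s ≫ μ = 𝟙 P) (i : ℕ)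
    (hQ : Subsingleton (Coh.HH X Q i)) : Subsingleton (Coh.HH X P i) := by
  have h1 : ∀ x : Coh.HH X P i, x = mapΓ μ i (mapΓ s i x) := by
    intro x
    have h2 : mapΓ (s ≫ μ) i x = x := by
      rw [h, mapΓ_id]
      rfl
    rw [mapΓ_comp] at h2
    exact h2.symm
  refine ⟨fun x y => ?_⟩
  rw [h1 x, h1 y, Subsingleton.elim (mapΓ s i x) (mapΓ s i y)]

end Groth.Agent.Variety.K431.ExtRetract
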