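import Mathlib.FieldTheory.IsAlgClosed.Classification
import Mathlib.FieldTheory.IsAlgClosed.Basic

/-!
# Isomorphisms of uncountable algebraically closed fields over a countable subring
-/

set_option autoImplicit false
universe u

open Cardinal

namespace K431.AlgClosedIso

/-- Two equipotent uncountable algebraically closed fields are isomorphic over any common countable
subring. -/
theorem exists_ringEquiv {R K L : Type u} [CommRing R] [Nontrivial R] [Field K] [Field L] [Algebra R K] [Algebra R L]
    [FaithfulSMul R K] [FaithfulSMul R L] [IsAlgClosed K] [IsAlgClosed L] (hR : Countable R)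
    (hK : Uncountable K) (hKL : #K = #L) :
    ∃ e : K ≃+* L, ∀ r : R, e (algebraMap R K r) = algebraMap R L r := by
  obtain ⟨s, hs⟩ := exists_isTranscendenceBasis R K
  obtain ⟨t, ht⟩ := exists_isTranscendenceBasis R L
  have hK' : ℵ₀ < #K := Cardinal.aleph0_lt_mk_iff.mpr hK
  have hR' : #R ≤ ℵ₀ := Cardinal.mk_le_aleph0_iff.mpr hR
  have h1 : #K = #s := IsAlgClosed.cardinal_eq_cardinal_transcendence_basis_of_aleph0_lt' _ hs hR' hK'
  have h2 : #L = #t := IsAlgClosed.cardinal_eq_cardinal_transcendence_basis_of_aleph0_lt' _ ht hR' (hKL ▸ hK')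
  obtain ⟨e⟩ : Nonempty (s ≃ t) := Cardinal.eq.mp (h1.symm.trans (hKL.trans h2))
  let _ := IsAlgClosed.isAlgClosure_of_transcendence_basis _ hs
  let _ := IsAlgClosed.isAlgClosure_of_transcendence_basis _ ht
  let e₀ : Algebra.adjoin R (Set.range ((↑) : s → K)) ≃ₐ[R] Algebra.adjoin R (Set.range ((↑) : t → L)) :=
    hs.1.aevalEquiv.symm.trans ((MvPolynomial.renameEquiv R e).trans ht.1.aevalEquiv)
  refine ⟨IsAlgClosure.equivOfEquiv K L e₀.toRingEquiv, fun r => ?_⟩
  have h3 := IsAlgClosure.equivOfEquiv_algebraMap K L e₀.toRingEquiv (algebraMap R _ r)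
  have h4 : e₀.toRingEquiv (algebraMap R _ r) = algebraMap R _ r := e₀.commutes r
  rw [h4] at h3
  exact h3

end K431.AlgClosedIso
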