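import Groth.Agent.AdjLin.K800.MulMap
import Groth.Agent.Ega3B.PullTensor
import Groth.Agent.Fdesc.LocGenPullback
import Groth.Agent.PerfB.LimModInv

/-!
# Surjectivity of restriction of global sections through a product

`Sur f M`: every global section of `f^* M` is the pullback of a global section of `M`.
`sur_prod`: if `i ≫ p₁ = i ≫ p₂ = j`, the multiplication `Γ(A) ⊗ Γ(B) → Γ(A ⊗ B)` is surjective and
`Sur j (A ⊗ B)`, then `Sur i (p₁^* A ⊗ p₂^* B)`.
-/

set_option autoImplicit false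
universe u
open CategoryTheory CategoryTheory.Limits AlgebraicGeometry Opposite TopologicalSpace

namespace Groth.Agent.Variety.K431.DiagSurj

open Groth.Agent Groth.Agent.Ega2 Groth.Agent.Ega2.Tens K800.MulMap Groth.Agent.Ega3B.PullTensor
open Groth.Agent.Fdesc.LocGen hiding tmul add_tmul tmul_add smul_tmul tmul_smul

variable {X Y Z : Scheme.{u}}

/-- Every global section of `f^* M` is the pullback of a global section of `M`. -/
def Sur (f : X ⟶ Y) (M : Y.Modules) : Prop :=
  ∀ s : Γ((Scheme.Modules.pullback f).obj M, ⊤), ∃ t : Γ(M, ⊤), pullTop f t = s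

/-- Pullback of global sections as an additive map. -/
noncomputable def pullHom (f : X ⟶ Y) (M : Y.Modules) :
    Γ(M, ⊤) →+ Γ((Scheme.Modules.pullback f).obj M, ⊤) :=
  AddMonoidHom.mk' (fun m => pullTop f m) (fun m n => pullSec_add f m n)

theorem exists_iso (f : X ⟶ Y) (g : Y ⟶ Z) (j : X ⟶ Z) (h : f ≫ g = j) (B : Z.Modules) :
    ∃ e : (Scheme.Modules.pullback f).obj ((Scheme.Modules.pullback g).obj B) ≅
        (Scheme.Modules.pullback j).obj B,
      ∀ b : Γ(B, ⊤), e.hom.app ⊤ (pullTop f (pullTop g b)) = pullTop j b := by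
  subst h
  exact ⟨(Scheme.Modules.pullbackComp f g).app B, fun b => pullSec_comp' f g b⟩

theorem app_top_injective {M N : X.Modules} (φ : M ⟶ N) [IsIso φ] :
    Function.Injective (gl φ) := by
  intro a b h
  have h2 : ∀ x, gl (inv φ) (gl φ x) = x := fun x => by
    have : gl (φ ≫ inv φ) x = x := by rw [IsIso.hom_inv_id]; rfl
    exact this
  rw [← h2 a, h, h2 b]

theorem Sur.of_iso {f : X ⟶ Y} {M N : Y.Modules} (e : M ≅ N) (h : Sur f M) : Sur f N := by
  intro s
  obtain ⟨t, ht⟩ := h (((Scheme.Modules.pullback f).map e.inv).app ⊤ s)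
  refine ⟨e.hom.app ⊤ t, ?_⟩
  have h1 : ((Scheme.Modules.pullback f).map e.hom).app ⊤ (pullTop f t) = pullTop f (e.hom.app ⊤ t) :=
    pullback_map_pullSec f e.hom t
  rw [← h1, ht]
  have h2 : (Scheme.Modules.pullback f).map e.inv ≫ (Scheme.Modules.pullback f).map e.hom = 𝟙 _ := by
    rw [← Functor.map_comp, e.inv_hom_id, CategoryTheory.Functor.map_id]
  exact congr(($(h2).app ⊤) s)

theorem sur_prod {C W P : Scheme.{u}} (i : C ⟶ W) (p₁ p₂ : W ⟶ P) (j : C ⟶ P) (h₁ : i ≫ p₁ = j)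
    (h₂ : i ≫ p₂ = j) {A B : P.Modules} (hA : PicF.IsInvertible A) (hB : PicF.IsInvertible B)
    (hm : MulSurj A B) (hs : Sur j (CohB1.tensorMod A B)) :
    Sur i (CohB1.tensorMod ((Scheme.Modules.pullback p₁).obj A) ((Scheme.Modules.pullback p₂).obj B)) := by
  obtain ⟨e₁, he₁⟩ := exists_iso i p₁ j h₁ A
  obtain ⟨e₂, he₂⟩ := exists_iso i p₂ j h₂ B
  have i1 : IsIso (delta j A B) := isIso_delta j hA hB
  have i2 : IsIso (delta i ((Scheme.Modules.pullback p₁).obj A) ((Scheme.Modules.pullback p₂).obj B)) :=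
    isIso_delta i (PerfB.LimMod.isInvertible_pullback p₁ hA) (PerfB.LimMod.isInvertible_pullback p₂ hB)
  let θ := delta i ((Scheme.Modules.pullback p₁).obj A) ((Scheme.Modules.pullback p₂).obj B) ≫
    (mapTIso e₁ e₂).hom
  have iθ : IsIso θ := inferInstance
  intro s
  obtain ⟨t, ht⟩ := hs (gl (inv (delta j A B)) (gl θ s))
  have key : ∀ t : Γ(CohB1.tensorMod A B, ⊤), (gl (delta j A B)).comp (pullHom j _) t ∈
      ((gl θ).comp (pullHom i _)).range := by
    intro t
    refine map_mem ((gl (delta j A B)).comp (pullHom j _)) _ ?_ (hm t)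
    intro a b
    refine ⟨tmul (pullTop p₁ a) (pullTop p₂ b), ?_⟩
    have q1 : (delta j A B).app ⊤ (pullTop j (tmul a b)) = tmul (pullTop j a) (pullTop j b) :=
      delta_pullSec j A B a b
    have q2 : (delta i ((Scheme.Modules.pullback p₁).obj A) ((Scheme.Modules.pullback p₂).obj B)).app ⊤
        (pullTop i (tmul (pullTop p₁ a) (pullTop p₂ b))) =
          tmul (pullTop i (pullTop p₁ a)) (pullTop i (pullTop p₂ b)) :=
      delta_pullSec i _ _ (pullTop p₁ a) (pullTop p₂ b)
    have q3 : (mapTIso e₁ e₂).hom.app ⊤ (tmul (pullTop i (pullTop p₁ a)) (pullTop i (pullTop p₂ b))) =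
        tmul (e₁.hom.app ⊤ (pullTop i (pullTop p₁ a))) (e₂.hom.app ⊤ (pullTop i (pullTop p₂ b))) :=
      mapT_tmul e₁.hom e₂.hom _ _
    rw [he₁, he₂] at q3
    exact ((congrArg (fun z => (mapTIso e₁ e₂).hom.app ⊤ z) q2).trans q3).trans q1.symm
  obtain ⟨n, hn⟩ := key t
  refine ⟨n, app_top_injective θ ?_⟩
  have h3 : gl (delta j A B) (gl (inv (delta j A B)) (gl θ s)) = gl θ s := by
    have : gl (inv (delta j A B) ≫ delta j A B) (gl θ s) = gl θ s := by rw [IsIso.inv_hom_id]; rfl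
    exact this
  refine Eq.trans ?_ h3
  rw [← ht]
  exact hn

end Groth.Agent.Variety.K431.DiagSurj
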