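import Groth.Agent.Krr.H463.Wedge

/-!
# `Λ^{n+1} E` as a direct factor of `E ⊗ Λ^n E` up to `(n+1)!`

`exists_split`: for exterior powers `L` of degree `n` and `N` of degree `n + 1` of `E` there are
`μ : E ⊗ L ⟶ N`, `s : N ⟶ E ⊗ L` with `s ≫ μ = (n + 1)! • 𝟙`.
-/

set_option autoImplicit false
universe u
open CategoryTheory CategoryTheory.Limits AlgebraicGeometry Opposite TopologicalSpace
open scoped TensorProduct
open Groth.Agent.Sga67.Sec Groth.Agent.Sga67.LocBasis Groth.Agent.Sga67.SesImage Groth.Agent.Sga67.ExtSheaf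

namespace Groth.Agent.Variety.K431.ExtSplit

section Alg

variable {R M : Type*} [CommRing R] [AddCommGroup M] [Module R M]

/-- `v ↦ v 0 ⊗ (v 1 ∧ ⋯ ∧ v n)`. -/
noncomputable def headTail (n : ℕ) :
    MultilinearMap R (fun _ : Fin (n + 1) => M) (M ⊗[R] ⋀[R]^n M) :=
  LinearMap.uncurryLeft (M := fun _ : Fin (n + 1) => M)
    { toFun := fun x => (TensorProduct.mk R M (⋀[R]^n M) x).compMultilinearMap
        (exteriorPower.ιMulti R n).toMultilinearMap
      map_add' := fun x y => by ext v; simp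
      map_smul' := fun a x => by ext v; simp [TensorProduct.smul_tmul'] }

theorem headTail_apply (n : ℕ) (v : Fin (n + 1) → M) :
    headTail (R := R) n v = v 0 ⊗ₜ exteriorPower.ιMulti R n (fun i => v i.succ) := rfl

/-- `n!` times the comultiplication `Λ^{n+1} M → M ⊗ Λ^n M`. -/
noncomputable def comul (n : ℕ) : ⋀[R]^(n + 1) M →ₗ[R] M ⊗[R] ⋀[R]^n M :=
  exteriorPower.alternatingMapLinearEquiv (MultilinearMap.alternatization (headTail n))

theorem comul_ιMulti (n : ℕ) (v : Fin (n + 1) → M) :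
    comul (R := R) n (exteriorPower.ιMulti R (n + 1) v) =
      ∑ σ : Equiv.Perm (Fin (n + 1)), Equiv.Perm.sign σ •
        (v (σ 0) ⊗ₜ[R] exteriorPower.ιMulti R n (fun i => v (σ i.succ))) := by
  rw [comul, exteriorPower.alternatingMapLinearEquiv_apply_ιMulti, MultilinearMap.alternatization_apply]
  rfl

theorem mul_comul (n : ℕ) (m : M ⊗[R] ⋀[R]^n M →ₗ[R] ⋀[R]^(n + 1) M)
    (hm : ∀ (x : M) (w : Fin n → M), m (x ⊗ₜ exteriorPower.ιMulti R n w) =
      exteriorPower.ιMulti R (n + 1) (Fin.cons x w)) (y : ⋀[R]^(n + 1) M) :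
    m (comul n y) = (Nat.factorial (n + 1)) • y := by
  have key : m ∘ₗ comul n = (Nat.factorial (n + 1)) • (LinearMap.id : ⋀[R]^(n + 1) M →ₗ[R] _) := by
    apply exteriorPower.linearMap_ext
    ext v : 1
    rw [LinearMap.compAlternatingMap_apply, LinearMap.compAlternatingMap_apply, LinearMap.comp_apply,
      comul_ιMulti, map_sum, LinearMap.smul_apply, LinearMap.id_apply]
    have h : ∀ σ : Equiv.Perm (Fin (n + 1)),
        m (Equiv.Perm.sign σ • (v (σ 0) ⊗ₜ[R] exteriorPower.ιMulti R n (fun i => v (σ i.succ)))) =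
          exteriorPower.ιMulti R (n + 1) v := by
      intro σ
      rw [LinearMap.map_smul_of_tower, hm]
      have h1 : (Fin.cons (v (σ 0)) (fun i => v (σ i.succ)) : Fin (n + 1) → M) = v ∘ σ := by
        funext i
        refine Fin.cases rfl (fun j => rfl) i
      rw [h1, AlternatingMap.map_perm, smul_smul, Int.units_mul_self, one_smul]
    rw [Finset.sum_congr rfl (fun σ _ => h σ), Finset.sum_const, Finset.card_univ, Fintype.card_perm,
      Fintype.card_fin]
  have := LinearMap.congr_fun key y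
  simpa using this

theorem map_comul {P T : Type*} [AddCommGroup P] [Module R P] [AddCommGroup T] [Module R T] (n : ℕ)
    (g : ⋀[R]^n M →ₗ[R] P) (τ : M ⊗[R] P →ₗ[R] T) (e : Fin (n + 1) → M) :
    τ (TensorProduct.map LinearMap.id g (comul n (exteriorPower.ιMulti R (n + 1) e))) =
      ∑ σ : Equiv.Perm (Fin (n + 1)), ((Equiv.Perm.sign σ : ℤˣ) : ℤ) •
        (τ (e (σ 0) ⊗ₜ[R] g (exteriorPower.ιMulti R n (fun i => e (σ i.succ))))) := by
  rw [comul_ιMulti, map_sum, map_sum]
  refine Finset.sum_congr rfl fun σ _ => ?_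
  rw [Units.smul_def, map_zsmul, map_zsmul, TensorProduct.map_tmul]
  rfl

end Alg

variable {X : Scheme.{u}} {E L N : X.Modules}

/-- The comultiplication on the sections over an affine open. -/
noncomputable def comulS {n : ℕ} (φ : Phi n E L) (ψ : Phi (n + 1) E N) (U : X.affineOpens) :
    Sec N U.1 →ₗ[Γ(X, U.1)] Sec (CohB1.tensorMod E L) U.1 :=
  (tau E L U.1) ∘ₗ (TensorProduct.map LinearMap.id (φ U).symm.toLinearMap) ∘ₗ
      (comul n) ∘ₗ (ψ U).toLinearMap

theorem comulS_apply {n : ℕ} (φ : Phi n E L) (ψ : Phi (n + 1) E N) (U : X.affineOpens)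
    (e : Fin (n + 1) → Sec E U.1) :
    comulS φ ψ U ((ψ U).symm (exteriorPower.ιMulti _ (n + 1) e)) =
      ∑ σ : Equiv.Perm (Fin (n + 1)), ((Equiv.Perm.sign σ : ℤˣ) : ℤ) •
        (tau E L U.1 (e (σ 0) ⊗ₜ[Γ(X, U.1)]
          ((φ U).symm (exteriorPower.ιMulti _ n (fun i => e (σ i.succ)))))) := by
  have h := map_comul n (φ U).symm.toLinearMap (tau E L U.1) e
  refine Eq.trans ?_ h
  exact congrArg (fun y => tau E L U.1 (TensorProduct.map LinearMap.id (φ U).symm.toLinearMap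
    (comul n y))) ((ψ U).apply_symm_apply _)

theorem comulS_res {n : ℕ} {φ : Phi n E L} (hφ : PhiComp φ) {ψ : Phi (n + 1) E N} (hψ : PhiComp ψ)
    (U V : X.affineOpens) (h : V.1 ≤ U.1) (s : Sec N U.1) :
    comulS φ ψ V (res N h s) = res _ h (comulS φ ψ U s) := by
  refine phi_induction ψ U (C := fun s => comulS φ ψ V (res N h s) = res _ h (comulS φ ψ U s))
    ?_ ?_ ?_ ?_ s
  · simp only [map_zero]
  · intro x y hx hy
    rw [map_add, map_add, hx, hy, map_add, map_add]
  · intro a x hx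
    rw [res_smul, map_smul, map_smul, hx, res_smul]
  · intro e
    rw [hψ U V h e, comulS_apply, comulS_apply, map_sum]
    refine Finset.sum_congr rfl fun σ _ => ?_
    rw [map_zsmul, ← tau_tres, tres_tmul, hφ U V h]

theorem appS_nsmul {M N : X.Modules} (f : M ⟶ N) (U : X.Opens) (s : Sec M U) (n : ℕ) :
    appS (n • f) U s = n • appS f U s := by
  induction n with
  | zero => rw [zero_smul, zero_smul, appS_zero]
  | succ n ih => rw [succ_nsmul, succ_nsmul, appS_add, ih]

theorem exists_split {n : ℕ} (hL : ExtPow.IsExtPow n E L) (hN : ExtPow.IsExtPow (n + 1) E N) :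
    ∃ (μ : CohB1.tensorMod E L ⟶ N) (s : N ⟶ CohB1.tensorMod E L),
      s ≫ μ = (Nat.factorial (n + 1)) • 𝟙 N := by
  obtain ⟨φ, hφ⟩ := exists_phi hL
  obtain ⟨ψ, hψ⟩ := exists_phi hN
  obtain ⟨μ, hμ⟩ := Krr.H463.Wedge.exists_wedge φ hφ ψ hψ
  obtain ⟨s, hs⟩ := exists_hom_of_basis' (affineBasis X) N (CohB1.tensorMod E L)
    (fun U => comulS φ ψ U) (fun U V h s => comulS_res hφ hψ U V h s)
  refine ⟨μ, s, ?_⟩
  refine hom_ext_of_locally fun x U hx => ?_
  obtain ⟨_, ⟨W, hW, rfl⟩, hxW, hWU⟩ :=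
    X.isBasis_affineOpens.exists_subset_of_mem_open (show x ∈ (U : Set X) from hx) U.isOpen
  refine ⟨W, hWU, hxW, fun t => ?_⟩
  let W' : X.affineOpens := ⟨W, hW⟩
  have h1 : appS (s ≫ μ) W t = appS μ W (comulS φ ψ W' t) :=
    congrArg (appS μ W) (hs W' t)
  have h2 := mul_comul n ((ψ W').toLinearMap ∘ₗ (appS μ W) ∘ₗ (tau E L W) ∘ₗ
    (TensorProduct.map LinearMap.id (φ W').symm.toLinearMap)) (fun x w => by
      refine (congrArg (ψ W') (hμ W' x w)).trans ?_
      exact (ψ W').apply_symm_apply _) (ψ W' t)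
  have h3 : ψ W' (appS μ W (comulS φ ψ W' t)) = (Nat.factorial (n + 1)) • ψ W' t := h2
  rw [← map_nsmul] at h3
  rw [h1, (ψ W').injective h3, appS_nsmul, appS_id]

end Groth.Agent.Variety.K431.ExtSplit
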