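import Groth.Agent.Variety.K433.HqBase
import Groth.Agent.Fga.HypSec
import Groth.Agent.S2324
import Groth.Agent.Fdesc.SubFilt

/-!
# Growth of the cohomology of negative twists

`neg_growth`: for `X` proper over a field, `M` ample, `F` coherent: `h^q(F ⊗ M^{-m}) ≤ C (m + 1)^q`.
-/

set_option autoImplicit false
universe u
open CategoryTheory CategoryTheory.Limits AlgebraicGeometry

namespace Groth.Agent.Variety.K431.NegGrowth

open Groth.Agent Groth.Agent.Ega2 Groth.Agent.Fdesc.LocGen Groth.Agent.Fga.RegSec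
open Groth.Agent.CohqB.SerTw Groth.Agent.Grpsch.PicGrp K433.Hq
open Groth.Agent.Pic13.H946.Core (cokSeq cokSeq_shortExact)

theorem bound_zero (f : ℕ → ℕ) (e : ℕ) (he : 0 < e) (h : ∀ m, f (m + e) ≤ f m) :
    ∃ C, ∀ m, f m ≤ C := by
  refine ⟨∑ j ∈ Finset.range e, f j, fun m => ?_⟩
  induction m using Nat.strong_induction_on with
  | _ m ih =>
    by_cases hm : m < e
    · exact Finset.single_le_sum (f := f) (fun _ _ => Nat.zero_le _) (Finset.mem_range.2 hm)
    · have h1 := h (m - e)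
      rw [Nat.sub_add_cancel (not_lt.1 hm)] at h1
      exact h1.trans (ih _ (by omega))

theorem bound_succ (f : ℕ → ℕ) (e q C' : ℕ) (he : 0 < e)
    (h : ∀ m, f (m + e) ≤ f m + C' * (m + e + 1) ^ q) :
    ∃ C, ∀ m, f m ≤ C * (m + 1) ^ (q + 1) := by
  have key : ∀ m, f m ≤ ∑ j ∈ Finset.range e, f j + C' * m * (m + 1) ^ q := by
    intro m
    induction m using Nat.strong_induction_on with
    | _ m ih =>
      by_cases hm : m < e
      · exact (Finset.single_le_sum (f := f) (fun _ _ => Nat.zero_le _)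
          (Finset.mem_range.2 hm)).trans (Nat.le_add_right _ _)
      · obtain ⟨m', rfl⟩ : ∃ m', m = m' + e := ⟨m - e, by omega⟩
        have h1 := h m'
        have h2 := ih m' (by omega)
        have h3 : C' * m' * (m' + 1) ^ q + C' * (m' + e + 1) ^ q ≤ C' * (m' + e) * (m' + e + 1) ^ q := by
          have h4 : (m' + 1) ^ q ≤ (m' + e + 1) ^ q := Nat.pow_le_pow_left (by omega) q
          calc C' * m' * (m' + 1) ^ q + C' * (m' + e + 1) ^ q
              ≤ C' * m' * (m' + e + 1) ^ q + C' * (m' + e + 1) ^ q := by gcongr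
            _ = C' * (m' + 1) * (m' + e + 1) ^ q := by ring
            _ ≤ C' * (m' + e) * (m' + e + 1) ^ q := by gcongr; omega
        omega
  refine ⟨∑ j ∈ Finset.range e, f j + C', fun m => (key m).trans ?_⟩
  have h1 : 1 ≤ (m + 1) ^ (q + 1) := Nat.one_le_pow _ _ (Nat.succ_pos m)
  calc ∑ j ∈ Finset.range e, f j + C' * m * (m + 1) ^ q
      ≤ (∑ j ∈ Finset.range e, f j) * (m + 1) ^ (q + 1) + C' * (m + 1) * (m + 1) ^ q := by
        gcongr
        · exact Nat.le_mul_of_pos_right _ h1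
        · omega
    _ = (∑ j ∈ Finset.range e, f j + C') * (m + 1) ^ (q + 1) := by ring

variable (k : Type u) [Field k] {X : Scheme.{u}} [X.Over (Spec (CommRingCat.of k))]
  [IsProper (X ↘ Spec (CommRingCat.of k))]

/-- A section of a power of an ample module which is regular on a coherent module. -/
theorem exists_cut {M : X.Modules} (hM : CohB1.IsAmple M) {F : X.Modules} (hF : Coh.IsCoh F) :
    ∃ (e : ℕ) (B Q : X.Modules) (i : F ⟶ B) (p : B ⟶ Q) (w : i ≫ p = 0), 0 < e ∧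
      (ShortComplex.mk i p w).ShortExact ∧ Coh.IsCoh B ∧ Coh.IsCoh Q ∧
      ∀ q c, hq k q B c = hq k q F (mk M hM.1 ^ e * c) := by
  have hN := Fga.HypSec.isNoetherian k X
  have hSep := Fga.HypSec.isSeparated k X
  obtain ⟨j, s, hAss, -, -⟩ := S2324.result X M hM (AssSch.Ass F) (Fdesc.SubFilt.finite_ass hF) ⊤
    (fun x _ => TopologicalSpace.Opens.mem_top x)
  have hB : PicF.IsInvertible (CohB1.tensorPow M (j + 1)) :=
    Fdesc.LocGen.isInvertible_tensorPow hM.1 _
  have hBF : Coh.IsCoh (CohB1.tensorMod (CohB1.tensorPow M (j + 1)) F) :=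
    Sga67.CohBasic.isCoh_of_iso (Ega2.Tens.swap F _) (Fga.TwistCoh.isCoh_tensor hF hB)
  have hmono : Mono (mulS s F) := mulS_mono s F hF (Sga67.CohBasic.isCoh_kernel _ hF hBF.1).1 hAss
  have hC : Coh.IsCoh (cokernel (mulS s F)) := PerfA.CohSerre.isCoh_cokernel (mulS s F) hF.1 hBF
  refine ⟨j + 1, _, _, mulS s F, cokernel.π _, cokernel.condition _, Nat.succ_pos j,
    cokSeq_shortExact (mulS s F), hBF, hC, fun q c => ?_⟩
  rw [hq_tensor' k q F hB c, ← mk_tensorPow hM.1 (j + 1)]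

theorem neg_growth {M : X.Modules} (hM : CohB1.IsAmple M) (q : ℕ) :
    ∀ {F : X.Modules} (_ : Coh.IsCoh F), ∃ C : ℕ, ∀ m : ℕ,
      hq k q F ((mk M hM.1)⁻¹ ^ m) ≤ C * (m + 1) ^ q := by
  have hinv : ∀ m e : ℕ, mk M hM.1 ^ e * (mk M hM.1)⁻¹ ^ (m + e) = (mk M hM.1)⁻¹ ^ m := by
    intro m e
    rw [pow_add, mul_comm ((mk M hM.1)⁻¹ ^ m), ← mul_assoc, ← mul_pow, mul_inv_cancel, one_pow, one_mul]
  induction q with
  | zero =>
    intro F hF
    obtain ⟨e, B, Q, i, p, w, he, hS, hB, hQ, h⟩ := exists_cut k hM hF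
    obtain ⟨C, hC⟩ := bound_zero (fun m => hq k 0 F ((mk M hM.1)⁻¹ ^ m)) e he (by
      intro m
      have h1 := hh_left_aux_zero k _ (shortExact_tw (rep_inv ((mk M hM.1)⁻¹ ^ (m + e))) hS)
        (S0002.result k X _ (Fga.TwistCoh.isCoh_tensor hB (rep_inv _)) 0)
      have h2 := h 0 ((mk M hM.1)⁻¹ ^ (m + e))
      rw [hinv] at h2
      exact h1.trans h2.le)
    exact ⟨C, fun m => by simpa using hC m⟩
  | succ q ih =>
    intro F hF
    obtain ⟨e, B, Q, i, p, w, he, hS, hB, hQ, h⟩ := exists_cut k hM hF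
    obtain ⟨C', hC'⟩ := ih hQ
    refine bound_succ (fun m => hq k (q + 1) F ((mk M hM.1)⁻¹ ^ m)) e q C' he fun m => ?_
    have h1 := hq_left_le k hS hF hB hQ (q + 1) ((mk M hM.1)⁻¹ ^ (m + e))
    have h2 := h (q + 1) ((mk M hM.1)⁻¹ ^ (m + e))
    rw [hinv] at h2
    have h3 := hC' (m + e)
    exact h1.trans (Nat.add_le_add h2.le h3)

end Groth.Agent.Variety.K431.NegGrowth
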