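import Groth.Agent.S0042
import Groth.Agent.S0036
import Groth.Agent.S0020
import Groth.Agent.Ega3B.RpushAbCmp
import Groth.Agent.Ega3B.RpushAff
import Groth.Agent.Krr.H485.LerayCl
import Groth.Agent.FormalA.PullbackQC
import Groth.Agent.FormalA.AnnIdeal
import Groth.Agent.FormalA.ExPush

/-!
# Higher direct images and the dimension of the support over a point

* `subsingleton_stalk_Rpush`: `(R^p π_* G)_y = 0` if `dim (Supp G ∩ π⁻¹ y) < p`.
* `exists_affine`: then `H^p(π⁻¹ V, G) = 0` for an affine neighbourhood `V` of `y`.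
-/

set_option autoImplicit false

universe u

open CategoryTheory CategoryTheory.Limits AlgebraicGeometry TopologicalSpace Topology

namespace Groth.Agent.Variety.K431.SuppVan

variable {X Y : Scheme.{u}}

/-- The scheme theoretic support. -/
noncomputable abbrev Sup {F : X.Modules} (hF : Coh.IsCoh F) : Scheme.{u} :=
  (FormalA.AnnIdeal.annIdeal F hF.1 hF.2).subscheme

/-- Its inclusion. -/
noncomputable abbrev inc {F : X.Modules} (hF : Coh.IsCoh F) : Sup hF ⟶ X :=
  (FormalA.AnnIdeal.annIdeal F hF.1 hF.2).subschemeι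

theorem range_inc {F : X.Modules} (hF : Coh.IsCoh F) : Set.range (inc hF) = CohB1.support F :=
  FormalA.AnnIdeal.range_subschemeι F hF.1 hF.2

theorem dim_fiber_le (π : X ⟶ Y) {F : X.Modules} (hF : Coh.IsCoh F) (y : Y) :
    topologicalKrullDim ↥((inc hF ≫ π).fiber y) ≤
      topologicalKrullDim {z : X // π.base z = y ∧ z ∈ CohB1.support F} := by
  let h := inc hF ≫ π
  let e := h.fiberHomeo y
  let φ : (h.base ⁻¹' {y}) → {z : X // π.base z = y ∧ z ∈ CohB1.support F} := fun w =>
    ⟨(inc hF).base w.1, w.2, by rw [← range_inc hF]; exact ⟨w.1, rfl⟩⟩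
  have hφ : IsInducing φ := by
    refine IsInducing.of_comp (g := Subtype.val) ?_ continuous_subtype_val ?_
    · exact Continuous.subtype_mk ((inc hF).continuous.comp continuous_subtype_val) _
    · exact (inc hF).isEmbedding.isInducing.comp IsInducing.subtypeVal
  exact (hφ.comp e.isInducing).topologicalKrullDim_le

variable (π : X ⟶ Y) [IsProper π] [IsLocallyNoetherian Y] [HasInjectiveResolutions X.Modules]

theorem subsingleton_stalk_Rpush {G : X.Modules} (hG : Coh.IsCoh G) (y : Y) (d : ℕ)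
    (hy : topologicalKrullDim {z : X // π.base z = y ∧ z ∈ CohB1.support G} ≤ d) (p : ℕ) (hp : d < p) :
    Subsingleton (((Coh.Rpush π p).obj G).presheaf.stalk y) := by
  have hZ : HasInjectiveResolutions (Sup hG).Modules := Krr.H485.LerayCl.hasInjectiveResolutions _
  let M := (Scheme.Modules.pullback (inc hG)).obj G
  have hM : Coh.IsCoh M := ⟨FormalA.PullbackQC.isQCoh_pullback _ G hG.1,
    FormalA.PullbackQC.isFT_pullback _ G hG.2⟩
  have h1 := Groth.Agent.S0042.result (inc hG ≫ π) y d ((dim_fiber_le π hG y).trans hy) M hM p hp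
  obtain ⟨e1⟩ := Ega3B.RpushAbCmp.nonempty_toAb_Rpush_iso (inc hG ≫ π) M p
  obtain ⟨e2⟩ := Krr.H485.LerayCl.nonempty_iso (inc hG) π M p
  have e3 : (Coh.Rpush π p).obj ((Scheme.Modules.pushforward (inc hG)).obj M) ≅
    (Coh.Rpush π p).obj G := (Coh.Rpush π p).mapIso (FormalA.AnnIdeal.pushPullIso G hG.1 hG.2)
  have e4 : (Coh.toAb ((Coh.Rpush π p).obj G)).obj ≅
      ((Coh.RpushAb (inc hG ≫ π) p).obj (Coh.toAb M)).obj :=
    (sheafToPresheaf _ _).mapIso ((SheafOfModules.toSheaf Y.ringCatSheaf).mapIso (e2 ≪≫ e3).symm ≪≫ e1)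
  have e5 := (TopCat.Presheaf.stalkFunctor AddCommGrpCat.{u} y).mapIso e4
  have h2 := h1.of_iso e5
  exact AddCommGrpCat.subsingleton_of_isZero h2

/-- Vanishing over an affine neighbourhood of `y`. -/
theorem exists_affine {G : X.Modules} (hG : Coh.IsCoh G) (y : Y) (d : ℕ)
    (hy : topologicalKrullDim {z : X // π.base z = y ∧ z ∈ CohB1.support G} ≤ d) (p : ℕ) (hp : d < p) :
    ∃ V : Y.Opens, IsAffineOpen V ∧ y ∈ V ∧ Subsingleton (Coh.HHon X G (π ⁻¹ᵁ V) p) := by
  have hR := S0036.result π G hG p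
  have hcl := S0020.result Y _ hR.2
  have hyR : y ∉ CohB1.support ((Coh.Rpush π p).obj G) :=
    not_not.mpr (subsingleton_stalk_Rpush π hG y d hy p hp)
  obtain ⟨V, hV, hyV, hVU⟩ := (Y.isBasis_affineOpens).exists_subset_of_mem_open
    (show y ∈ (CohB1.support ((Coh.Rpush π p).obj G))ᶜ from hyR) hcl.isOpen_compl
  obtain ⟨V, rfl⟩ : ∃ W : Y.Opens, (W : Set Y) = V := by
    obtain ⟨W, -, rfl⟩ := hV
    exact ⟨W, rfl⟩
  have hVa : IsAffineOpen V := by
    obtain ⟨W, hW, hWV⟩ := hV
    rwa [SetLike.coe_injective hWV] at hW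
  refine ⟨V, hVa, hyV, (Ega3B.RpushAff.subsingleton_iff π G hG.1 hVa p).1 ?_⟩
  exact subsingleton_of_forall_eq 0 fun s => FormalA.ExPush.section_eq_zero_of_support _ V s
    fun x hx => hVU hx

/-- The higher direct images vanish if the support meets the fibres over closed points in dimension `< p`. -/
theorem isZero_Rpush [JacobsonSpace Y] {G : X.Modules} (hG : Coh.IsCoh G) (d : ℕ)
    (hy : ∀ y : Y, IsClosed ({y} : Set Y) →
      topologicalKrullDim {z : X // π.base z = y ∧ z ∈ CohB1.support G} ≤ d) (p : ℕ) (hp : d < p) :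
    IsZero ((Coh.Rpush π p).obj G) := by
  have hR := S0036.result π G hG p
  have hcl := S0020.result Y _ hR.2
  have hempty : CohB1.support ((Coh.Rpush π p).obj G) = ∅ := by
    by_contra hne
    obtain ⟨y, hyR⟩ := Set.nonempty_iff_ne_empty.mpr hne
    have h1 := (JacobsonSpace.closure_inter_closedPoints_eq_closure hcl.isLocallyClosed)
    obtain ⟨x, hxR, hx⟩ : (CohB1.support ((Coh.Rpush π p).obj G) ∩ closedPoints Y).Nonempty := by
      by_contra h
      rw [Set.not_nonempty_iff_eq_empty.mp h, closure_empty] at h1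
      rw [hcl.closure_eq] at h1
      exact hne h1.symm
    exact hxR (subsingleton_stalk_Rpush π hG x d (hy x hx) p hp)
  have h0 : ∀ V : Y.Opens, Subsingleton Γ((Coh.Rpush π p).obj G, V) := fun V =>
    subsingleton_of_forall_eq 0 fun s => FormalA.ExPush.section_eq_zero_of_support _ V s
      fun x _ => by rw [hempty]; exact Set.notMem_empty x
  refine (Ega3B.RpushAff.isZero_iff π G hG.1 p).2 fun V hV => ?_
  exact (Ega3B.RpushAff.subsingleton_iff π G hG.1 hV p).1 (h0 V)

end Groth.Agent.Variety.K431.SuppVan
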